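import Cfsg.Agent.H59.LW.Even
import Cfsg.Agent.H91.JordanK
import Cfsg.Agent.S0743

/-!
In a `k`-transitive group (`4 ≤ k < n`) some `(k+1)`-set has its alternating group induced.
-/

set_option autoImplicit false

namespace H59
namespace LW

open Equiv MulAction

universe u

/-- The case in which only the identity fixes more than `k` points. -/
theorem exists_altFull_base {G α : Type u} [Group G] [Finite G] [MulAction G α] [FaithfulSMul G α]
    [Fintype α] [DecidableEq α] {k : ℕ} (hk : 4 ≤ k) (hkn : k < Fintype.card α) (hG : Trans G α k)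
    (hP1 : ∀ g : G, k + 1 ≤ (fixSet g : Finset α).card → g = 1) :
    ∃ Δ : Finset α, Δ.card = k + 1 ∧ AltFull G Δ := by
  classical
  obtain ⟨Δ, -, hΔ⟩ := Finset.exists_superset_card_eq (s := (∅ : Finset α)) (n := k + 1) (by simp)
    (by simpa using hkn)
  by_cases hinv : ∃ h : G, h ≠ 1 ∧ h * h = 1 ∧ k ≤ (fixSet h : Finset α).card
  · obtain ⟨h, h1, h2, h3⟩ := hinv
    exact ⟨Δ, hΔ, altFull_of_two (by omega) hG
      (fun T hT => two_of_involution (by omega) hG hP1 h1 h2 h3 hT) hΔ⟩
  push Not at hinv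
  have hP2 : ∀ g : G, g * g = 1 → k ≤ (fixSet g : Finset α).card → g = 1 := fun g hg hf =>
    by_contra fun h => absurd hf (not_le.2 (hinv g h hg))
  have hn := card_le_of_odd_stabilizer hk hkn.le hG hP1 hP2
  obtain ⟨T₀, -, hT₀⟩ := Finset.exists_superset_card_eq (s := (∅ : Finset α)) (n := k) (by simp)
    (by simpa using hkn.le)
  obtain ⟨s, hs⟩ : ∃ s, s = Nat.card (fixer G T₀) := ⟨_, rfl⟩
  have hspos : 0 < s := hs ▸ Nat.card_pos
  have hall : ∀ T : Finset α, T.card = k → Nat.card (fixer G T) = s := fun T hT => by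
    rw [hs]; exact hG.card_fixer_eq hT.le (hT.trans hT₀.symm)
  by_cases hsmall : Fintype.card α - k < 3 * s
  · exact ⟨Δ, hΔ, altFull_of_two (by omega) hG
      (fun T hT => two_of_card hP1 hT (by rw [hall T hT]; exact hsmall)) hΔ⟩
  have hs1 : s = 1 := by
    rcases (show s = 1 ∨ s = 2 by omega) with h | h
    · exact h
    · exfalso
      haveI : Fact (Nat.Prime 2) := ⟨Nat.prime_two⟩
      obtain ⟨x, hx⟩ := exists_prime_orderOf_dvd_card' (G := fixer G T₀) 2 (by rw [← hs, h])
      rw [← Subgroup.orderOf_coe] at hx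
      have hx2 : (x : G) * x = 1 := by
        have := pow_orderOf_eq_one (x : G); rwa [hx, sq] at this
      have h3 := hP2 _ hx2 (hT₀ ▸ Finset.card_le_card fun v hv => mem_fixSet.2 (mem_fixer.1 x.2 v hv))
      rw [h3, orderOf_one] at hx
      omega
  have hS : ∀ g : G, k ≤ (fixSet g : Finset α).card → g = 1 := by
    intro g hg
    obtain ⟨T, hTsub, hT⟩ := Finset.exists_subset_card_eq hg
    have h1 : fixer G T = ⊥ := Subgroup.eq_bot_of_card_eq _ ((hall T hT).trans hs1)
    have h2 : g ∈ fixer G T := mem_fixer.2 fun v hv => mem_fixSet.1 (hTsub hv)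
    rwa [h1, Subgroup.mem_bot] at h2
  have hsharp : ∀ x : Fin k ↪ α, stabilizer G x = ⊥ := by
    intro x
    rw [Subgroup.eq_bot_iff_forall]
    intro g hg
    refine hS g (le_trans (by simp) (Finset.card_le_card (s := Finset.univ.map x) fun v hv => ?_))
    obtain ⟨i, -, rfl⟩ := Finset.mem_map.1 hv
    rw [mem_fixSet]
    exact DFunLike.congr_fun (show g • x = x from hg) i
  have hmul := multiply_of_trans hG
  have hdeg : Fintype.card α = k + 7 := by
    rcases (show k = 4 ∨ k = 5 ∨ 6 ≤ k by omega) with rfl | rfl | h6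
    · have := H91.jordan_four hmul hsharp hkn.le; omega
    · have := H91.jordan_five hmul hsharp hkn.le; omega
    · have := H91.jordan_k k h6 hmul hsharp hkn.le; omega
  obtain ⟨Δ', hΔ', hfull⟩ := full_of_sharp hk hkn.le hG (by omega) hS
  exact ⟨Δ', hΔ', fun σ hσ _ => hfull σ hσ⟩

/-- Some `(k+1)`-set has its alternating group induced. -/
theorem exists_altFull : ∀ (n : ℕ) {α : Type u} [Fintype α] [DecidableEq α]
    (G : Subgroup (Perm α)) {k : ℕ}, Fintype.card α = n → 4 ≤ k → k < n → Trans G α k →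
    ∃ Δ : Finset α, Δ.card = k + 1 ∧ AltFull G Δ := by
  intro n
  induction n using Nat.strong_induction_on with
  | _ n ih =>
  intro α _ _ G k hn hk hkn hG
  classical
  subst hn
  by_cases hP1 : ∀ g : G, k + 1 ≤ (fixSet g : Finset α).card → g = 1
  · exact exists_altFull_base hk hkn hG hP1
  push Not at hP1
  obtain ⟨g, hgf, hg1⟩ := hP1
  obtain ⟨p, hp, hpg⟩ := Nat.exists_prime_and_dvd (show orderOf g ≠ 1 from fun h => hg1 (orderOf_eq_one_iff.1 h))
  haveI := Fact.mk hp
  obtain ⟨g₁, hg₁, hg₁f⟩ : ∃ g₁ : G, orderOf g₁ = p ∧ ∀ x : α, g • x = x → g₁ • x = x := by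
    refine ⟨g ^ (orderOf g / p), ?_, fun x hx => ?_⟩
    · rw [orderOf_pow_of_dvd (Nat.div_ne_zero_iff.2 ⟨hp.ne_zero, Nat.le_of_dvd (orderOf_pos g) hpg⟩)
        (Nat.div_dvd_of_dvd hpg), Nat.div_div_self hpg (orderOf_pos g).ne']
    · generalize orderOf g / p = c
      induction c with
      | zero => rw [pow_zero, one_smul]
      | succ c ih => rw [pow_succ, mul_smul, hx, ih]
  obtain ⟨Fix, hFix⟩ : ∃ Fix : Subgroup G → Finset α, ∀ P x, x ∈ Fix P ↔ ∀ h ∈ P, h • x = x :=
    ⟨fun P => Finset.univ.filter fun x => ∀ h ∈ P, h • x = x, fun P x => by simp⟩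
  haveI : Fintype (Subgroup G) := Fintype.ofFinite _
  obtain ⟨P, hPmem, hPmax⟩ := Finset.exists_max_image
    (Finset.univ.filter fun P : Subgroup G => IsPGroup p P ∧ P ≠ ⊥ ∧ k + 1 ≤ (Fix P).card)
    (fun P => Nat.card P) ⟨Subgroup.zpowers g₁, by
      refine Finset.mem_filter.2 ⟨Finset.mem_univ _,
        IsPGroup.of_card (n := 1) (by rw [Nat.card_zpowers, hg₁, pow_one]), fun h => ?_, ?_⟩
      · rw [Subgroup.zpowers_eq_bot] at h
        rw [h, orderOf_one] at hg₁
        exact hp.one_lt.ne hg₁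
      · refine hgf.trans (Finset.card_le_card fun x hx => (hFix _ _).2 fun h hh => ?_)
        have h1 : g₁ ∈ stabilizer G x := hg₁f x (mem_fixSet.1 hx)
        exact (Subgroup.zpowers_le.2 h1 hh : h ∈ stabilizer G x)⟩
  simp only [Finset.mem_filter, Finset.mem_univ, true_and] at hPmem hPmax
  obtain ⟨hPp, hP1, hPF⟩ := hPmem
  obtain ⟨F, hFdef⟩ : ∃ F, F = Fix P := ⟨_, rfl⟩
  rw [← hFdef] at hPF
  have hF : ∀ x, x ∈ F ↔ ∀ h ∈ P, h • x = x := fun x => hFdef ▸ hFix P x
  obtain ⟨N, hN⟩ : ∃ N, N = Subgroup.normalizer (P : Set G) := ⟨_, rfl⟩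
  have hNF : ∀ m ∈ N, ∀ x ∈ F, m • x ∈ F := by
    intro m hm x hx
    rw [hF] at hx ⊢
    intro h hh
    rw [hN, Subgroup.mem_normalizer_iff''] at hm
    have h2 := hx _ ((hm h).1 hh)
    rwa [mul_smul, mul_smul, inv_smul_eq_iff] at h2
  letI : MulAction N {x // x ∈ F} :=
    { smul := fun m x => ⟨(m : G) • (x : α), hNF m m.2 x x.2⟩
      one_smul := fun x => Subtype.ext (one_smul G (x : α))
      mul_smul := fun a b x => Subtype.ext (mul_smul (a : G) b (x : α)) }
  have hFcard : Fintype.card {x // x ∈ F} = F.card := Fintype.card_coe F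
  have hFlt : F.card < Fintype.card α := by
    refine Finset.card_lt_univ_of_notMem (x := ?_) ?_
    · exact Classical.choose (show ∃ x, x ∉ F by
        by_contra hcon
        push Not at hcon
        exact hP1 ((Subgroup.eq_bot_iff_forall _).2 fun h hh =>
          FaithfulSMul.eq_of_smul_eq_smul fun x : α => by rw [one_smul]; exact (hF x).1 (hcon x) h hh))
    · exact Classical.choose_spec (p := fun x => x ∉ F) _
  obtain ⟨T₀, -, hT₀⟩ := Finset.exists_superset_card_eq (s := (∅ : Finset α)) (n := k) (by simp)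
    (by simpa using hkn.le)
  obtain ⟨v, hv⟩ : ∃ v, v = (Nat.card (fixer G T₀)).factorization p := ⟨_, rfl⟩
  have hfac : ∀ T : Finset α, T.card = k → (Nat.card (fixer G T)).factorization p = v := fun T hT => by
    rw [hv, hG.card_fixer_eq hT.le (hT.trans hT₀.symm)]
  have hPle : ∀ T : Finset α, T ⊆ F → P ≤ fixer G T := fun T hT h hh =>
    mem_fixer.2 fun x hx => (hF x).1 (hT hx) h hh
  have htrans : Trans N {x // x ∈ F} k := by
    by_cases hsyl : Nat.card P = p ^ v
    · -- Witt's argument
      intro T hT σ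
      obtain ⟨T', hTT', hT'⟩ := Finset.exists_superset_card_eq hT (by rw [hFcard]; omega)
      obtain ⟨U, hU⟩ : ∃ U : Finset α, U = T'.map (Function.Embedding.subtype _) := ⟨_, rfl⟩
      have hUcard : U.card = k := by rw [hU, Finset.card_map, hT']
      obtain ⟨a, ha⟩ := hG U hUcard.le (Perm.ofSubtype σ)
      have haσ : ∀ x ∈ T', a • (x : α) = (σ x : α) := fun x hx => by
        rw [ha _ (hU ▸ Finset.mem_map_of_mem _ hx)]
        exact Perm.ofSubtype_apply_coe σ x
      obtain ⟨V, hV⟩ : ∃ V : Finset α, V = U.image (fun x => a • x) := ⟨_, rfl⟩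
      have hVcard : V.card = k := by
        rw [hV, Finset.card_image_of_injective _ (MulAction.injective a), hUcard]
      have hVF : V ⊆ F := by
        intro x hx
        rw [hV, hU] at hx
        obtain ⟨y, hy, rfl⟩ := Finset.mem_image.1 hx
        obtain ⟨z, hz, rfl⟩ := Finset.mem_map.1 hy
        show a • (z : α) ∈ F
        rw [haσ z hz]; exact (σ z).2
      have hUF : U ⊆ F := by
        intro x hx
        rw [hU] at hx
        obtain ⟨z, -, rfl⟩ := Finset.mem_map.1 hx
        exact z.2
      obtain ⟨R, hR⟩ : ∃ R : Subgroup G, R = P.map (MulAut.conj a).toMonoidHom := ⟨_, rfl⟩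
      have hRle : R ≤ fixer G V := by
        rintro _ hm
        rw [hR] at hm
        obtain ⟨h, hh, rfl⟩ := hm
        rw [mem_fixer]
        intro x hx
        rw [hV] at hx
        obtain ⟨y, hy, rfl⟩ := Finset.mem_image.1 hx
        show (a * h * a⁻¹) • a • y = a • y
        rw [mul_smul, mul_smul, inv_smul_smul, (hF y).1 (hUF hy) h hh]
      have hRcard : Nat.card R = p ^ v := by
        rw [hR, Subgroup.card_map_of_injective (MulEquiv.injective _), hsyl]
      let S₁ : Sylow p (fixer G V) := Sylow.ofCard (P.subgroupOf (fixer G V))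
        (by rw [Nat.card_congr (Subgroup.subgroupOfEquivOfLe (hPle V hVF)).toEquiv, hsyl, hfac V hVcard])
      let S₂ : Sylow p (fixer G V) := Sylow.ofCard (R.subgroupOf (fixer G V))
        (by rw [Nat.card_congr (Subgroup.subgroupOfEquivOfLe hRle).toEquiv, hRcard, hfac V hVcard])
      obtain ⟨c, hc⟩ := MulAction.exists_smul_eq (fixer G V) S₂ S₁
      have hmem : ∀ h ∈ P, (c : G) * a * h * ((c : G) * a)⁻¹ ∈ P := by
        intro h hh
        have h1 : (⟨a * h * a⁻¹, hRle (hR ▸ Subgroup.mem_map_of_mem _ hh)⟩ : fixer G V) ∈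
            (S₂ : Subgroup (fixer G V)) := by
          show a * h * a⁻¹ ∈ R
          exact hR ▸ Subgroup.mem_map_of_mem (MulAut.conj a).toMonoidHom hh
        have h2 : c * (⟨a * h * a⁻¹, hRle (hR ▸ Subgroup.mem_map_of_mem _ hh)⟩ : fixer G V) * c⁻¹ ∈
            (S₁ : Subgroup (fixer G V)) := by
          rw [← hc, Sylow.coe_subgroup_smul]
          exact Subgroup.smul_mem_pointwise_smul _ (MulAut.conj c) _ h1
        have h3 : (c : G) * (a * h * a⁻¹) * (c : G)⁻¹ ∈ P := h2
        simpa [mul_assoc] using h3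
      have hnorm : (c : G) * a ∈ N := by
        rw [hN, Subgroup.mem_normalizer_iff]
        intro h
        refine ⟨hmem h, fun h2 => ?_⟩
        have himg : P.map (MulAut.conj ((c : G) * a)).toMonoidHom = P := by
          refine Subgroup.eq_of_le_of_card_ge ?_
            (by rw [Subgroup.card_map_of_injective (MulEquiv.injective _)])
          rintro _ ⟨u, hu, rfl⟩
          exact hmem u hu
        rw [← himg] at h2
        obtain ⟨u, hu, e⟩ := h2
        have : u = h := (MulAut.conj ((c : G) * a)).injective e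
        exact this ▸ hu
      refine ⟨⟨_, hnorm⟩, fun x hx => Subtype.ext ?_⟩
      show ((c : G) * a) • (x : α) = (σ x : α)
      rw [mul_smul, haσ x (hTT' hx)]
      refine mem_fixer.1 c.2 _ ?_
      rw [hV, hU]
      exact Finset.mem_image.2 ⟨x, Finset.mem_map_of_mem _ (hTT' hx), haσ x (hTT' hx)⟩
    · -- Gleason's lemma
      refine trans_of_multiply ?_ (by rw [hFcard]; omega)
      refine Cfsg.Agent.S0743.gleason hp k N {x // x ∈ F} (by omega) (by rw [hFcard]; omega) fun s hs => ?_
      obtain ⟨T, hT⟩ : ∃ T : Finset α, T = s.map (Function.Embedding.subtype _) := ⟨_, rfl⟩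
      have hTcard : T.card = k := by rw [hT, Finset.card_map, hs]
      have hTF : T ⊆ F := by
        intro x hx
        rw [hT] at hx
        obtain ⟨z, -, rfl⟩ := Finset.mem_map.1 hx
        exact z.2
      obtain ⟨S, hS⟩ := (hPp.comap_of_injective (fixer G T).subtype
        (fixer G T).subtype_injective).exists_le_sylow
      obtain ⟨Q, hQ⟩ : ∃ Q : Subgroup G, Q = (S : Subgroup (fixer G T)).map (fixer G T).subtype := ⟨_, rfl⟩
      have hPQ : P ≤ Q := fun h hh => hQ ▸ ⟨⟨h, hPle T hTF hh⟩, hS hh, rfl⟩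
      have hQp : IsPGroup p Q := hQ ▸ S.2.map _
      have hQle : Q ≤ fixer G T := hQ ▸ Subgroup.map_subtype_le _
      have hne : P.subgroupOf Q ≠ ⊤ := by
        intro h
        rw [Subgroup.subgroupOf_eq_top] at h
        refine hsyl ?_
        rw [le_antisymm hPQ h, hQ, Subgroup.card_map_of_injective (fixer G T).subtype_injective,
          S.card_eq_multiplicity, hfac T hTcard]
      haveI : Group.IsNilpotent Q := hQp.isNilpotent
      have hlt : P.subgroupOf Q < Subgroup.normalizer ((P.subgroupOf Q : Subgroup Q) : Set Q) :=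
        normalizerCondition_of_isNilpotent _ (Ne.lt_top hne)
      obtain ⟨R, hR⟩ : ∃ R : Subgroup G,
          R = (Subgroup.normalizer ((P.subgroupOf Q : Subgroup Q) : Set Q)).map Q.subtype := ⟨_, rfl⟩
      have hPR : P ≤ R := fun h hh => hR ▸ ⟨⟨h, hPQ hh⟩, Subgroup.le_normalizer hh, rfl⟩
      have hRN : R ≤ N := by
        intro m hm
        rw [hR] at hm
        obtain ⟨q, hq, rfl⟩ := hm
        rw [hN, Subgroup.mem_normalizer_iff]
        intro h
        constructor
        · intro hh
          exact ((Subgroup.mem_normalizer_iff.1 hq ⟨h, hPQ hh⟩).1 hh :)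
        · intro hh
          have hhQ : h ∈ Q := by
            have := Q.mul_mem (Q.mul_mem (Q.inv_mem q.2) (hPQ hh)) q.2
            simpa [mul_assoc] using this
          exact ((Subgroup.mem_normalizer_iff.1 hq ⟨h, hhQ⟩).2 hh :)
      have hRp : IsPGroup p R := hR ▸ (hQp.to_subgroup _).map _
      have hlt' : Nat.card P < Nat.card R := by
        rw [hR, Subgroup.card_map_of_injective Q.subtype_injective,
          ← Nat.card_congr (Subgroup.subgroupOfEquivOfLe hPQ).toEquiv]
        refine lt_of_le_of_ne (Subgroup.card_le_of_le hlt.le) fun h => hlt.ne ?_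
        exact Subgroup.eq_of_le_of_card_ge hlt.le h.ge
      have hRT : Fix R = T := by
        refine (Finset.eq_of_subset_of_card_le (fun x hx => (hFix R x).2 fun h hh => ?_) ?_).symm
        · rw [hR] at hh
          obtain ⟨q, -, rfl⟩ := hh
          exact mem_fixer.1 (hQle q.2) x hx
        · rw [hTcard]
          by_contra hcon
          push Not at hcon
          have := hPmax R ⟨hRp, fun h => by
            rw [h, Subgroup.card_bot] at hlt'
            have := Nat.card_pos (α := P)
            omega, hcon⟩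
          omega
      refine ⟨R.subgroupOf N, hRp.comap_subtype, Set.ext fun x => ?_⟩
      rw [MulAction.mem_fixedPoints, Finset.mem_coe]
      constructor
      · intro h
        have h1 : (x : α) ∈ Fix R := (hFix R x).2 fun m hm =>
          congrArg Subtype.val (h ⟨⟨m, hRN hm⟩, hm⟩)
        rw [hRT, hT, Finset.mem_map] at h1
        obtain ⟨z, hz, e⟩ := h1
        exact (Subtype.ext e : z = x) ▸ hz
      · intro h m
        have h1 : (x : α) ∈ Fix R := hRT ▸ hT ▸ Finset.mem_map_of_mem _ h
        exact Subtype.ext ((hFix R x).1 h1 _ m.2)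
  -- recursion on the fixed points
  let φ := MulAction.toPermHom N {x // x ∈ F}
  have hK : Trans φ.range {x // x ∈ F} k := by
    intro T hT σ
    obtain ⟨m, hm⟩ := htrans T hT σ
    exact ⟨⟨φ m, m, rfl⟩, hm⟩
  obtain ⟨Δ, hΔ, halt⟩ := ih F.card hFlt φ.range (Fintype.card_coe F) hk (by omega) hK
  refine ⟨Δ.map (Function.Embedding.subtype _), by rw [Finset.card_map, hΔ], fun σ hσ hsgn => ?_⟩
  have hout : ∀ x, x ∉ F → σ x = x := fun x hx => hσ x fun h => by
    obtain ⟨z, -, rfl⟩ := Finset.mem_map.1 h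
    exact hx z.2
  have hclosed : ∀ x, σ x ∈ F ↔ x ∈ F := fun x => by
    constructor
    · intro hx
      by_contra hn
      exact hn (hout x hn ▸ hx)
    · intro hx
      by_contra hn
      exact hn ((σ.injective (hout _ hn)).symm ▸ hx)
  have hmove : ∀ x, σ x ≠ x → x ∈ F := fun x hx => by_contra fun hn => hx (hout x hn)
  have hre := Perm.ofSubtype_subtypePerm (f := σ) (p := fun x => x ∈ F) hclosed hmove
  obtain ⟨-, ⟨_, m, rfl⟩, hm⟩ := halt (σ.subtypePerm hclosed) (fun x hx => Subtype.ext (hσ x fun h => by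
      obtain ⟨z, hz, e⟩ := Finset.mem_map.1 h
      exact hx ((Subtype.ext e : z = x) ▸ hz)))
    (by rw [← Perm.sign_ofSubtype, hre]; exact hsgn)
  refine ⟨hσ, (m : G), fun x hx => ?_⟩
  obtain ⟨z, hz, rfl⟩ := Finset.mem_map.1 hx
  exact congrArg Subtype.val (hm z hz)

end LW
end H59
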