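import Mathlib

/-!
Tools for highly transitive and highly homogeneous groups (Livingstone–Wagner).
-/

set_option autoImplicit false

namespace H59
namespace LW

open Equiv MulAction

variable {G α : Type*} [Group G] [MulAction G α] [Fintype α] [DecidableEq α]

/-- `k`-transitivity, phrased with finsets and permutations. -/
def Trans (G α : Type*) [Group G] [MulAction G α] (k : ℕ) : Prop :=
  ∀ T : Finset α, T.card ≤ k → ∀ σ : Perm α, ∃ g : G, ∀ x ∈ T, g • x = σ x

theorem trans_of_multiply {k : ℕ} (h : IsMultiplyPretransitive G α k) (hk : k ≤ Fintype.card α) :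
    Trans G α k := by
  intro T hT σ
  obtain ⟨T', hTT', hT'⟩ := Finset.exists_superset_card_eq hT (by simpa using hk)
  let e : Fin k ≃ T' := (T'.equivFinOfCardEq hT').symm
  let u : Fin k ↪ α := e.toEmbedding.trans (Function.Embedding.subtype _)
  obtain ⟨g, hg⟩ := h.exists_smul_eq u (u.trans σ.toEmbedding)
  refine ⟨g, fun x hx => ?_⟩
  obtain ⟨i, hi⟩ := e.surjective ⟨x, hTT' hx⟩
  have hux : u i = x := congrArg Subtype.val hi
  have := DFunLike.congr_fun hg i
  rw [← hux]
  exact this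

theorem exists_perm_image {T T' : Finset α} (h : T.card = T'.card) :
    ∃ σ : Perm α, T.image σ = T' := by
  let e : {x // x ∈ T} ≃ {x // x ∈ T'} := Finset.equivOfCardEq h
  refine ⟨e.extendSubtype, ?_⟩
  refine Finset.eq_of_subset_of_card_le ?_ ?_
  · intro y hy
    obtain ⟨x, hx, rfl⟩ := Finset.mem_image.1 hy
    exact e.extendSubtype_mem x hx
  · rw [Finset.card_image_of_injective _ e.extendSubtype.injective, h]

theorem multiply_of_trans {k : ℕ} (h : Trans G α k) : IsMultiplyPretransitive G α k := by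
  rw [isMultiplyPretransitive_iff]
  intro u v
  obtain ⟨σ, hσ⟩ := Equiv.Perm.exists_extending_pair u v u.injective v.injective
  obtain ⟨g, hg⟩ := h (Finset.univ.map u) (by simp) σ
  refine ⟨g, DFunLike.ext _ _ fun i => ?_⟩
  show g • u i = v i
  rw [hg _ (by simp), hσ]

theorem Trans.mono {k l : ℕ} (h : Trans G α k) (hlk : l ≤ k) : Trans G α l :=
  fun T hT σ => h T (hT.trans hlk) σ

theorem Trans.exists_image {k : ℕ} (h : Trans G α k) {T T' : Finset α} (hT : T.card ≤ k)
    (hTT' : T.card = T'.card) : ∃ g : G, T.image (fun x => g • x) = T' := by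
  obtain ⟨σ, hσ⟩ := exists_perm_image hTT'
  obtain ⟨g, hg⟩ := h T hT σ
  exact ⟨g, hσ ▸ Finset.image_congr fun x hx => hg x hx⟩

/-- The points fixed by `g`. -/
def fixSet (g : G) : Finset α := Finset.univ.filter fun x => g • x = x

omit [DecidableEq α] in
theorem mem_fixSet [DecidableEq α] {g : G} {x : α} : x ∈ fixSet g ↔ g • x = x := by
  simp [fixSet]

/-- Pointwise stabiliser of a finset. -/
def fixer (G : Type*) {α : Type*} [Group G] [MulAction G α] (T : Finset α) : Subgroup G :=
  fixingSubgroup G (T : Set α)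

omit [Fintype α] [DecidableEq α] in
theorem mem_fixer {T : Finset α} {g : G} : g ∈ fixer G T ↔ ∀ x ∈ T, g • x = x := by
  simp [fixer, mem_fixingSubgroup_iff]

omit [Fintype α] in
/-- Conjugation carries pointwise stabilisers to pointwise stabilisers. -/
theorem card_fixer_image (g : G) (T : Finset α) :
    Nat.card (fixer G (T.image (fun x => g • x))) = Nat.card (fixer G T) := by
  refine (Nat.card_congr ?_).symm
  exact
    { toFun := fun h => ⟨g * h * g⁻¹, mem_fixer.2 fun y hy => by
        obtain ⟨x, hx, rfl⟩ := Finset.mem_image.1 hy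
        rw [mul_smul, mul_smul, inv_smul_smul, mem_fixer.1 h.2 x hx]⟩
      invFun := fun h => ⟨g⁻¹ * h * g, mem_fixer.2 fun x hx => by
        rw [mul_smul, mul_smul, mem_fixer.1 h.2 _ (Finset.mem_image_of_mem _ hx), inv_smul_smul]⟩
      left_inv := fun h => Subtype.ext (by simp [mul_assoc])
      right_inv := fun h => Subtype.ext (by simp [mul_assoc]) }

theorem Trans.card_fixer_eq {k : ℕ} (h : Trans G α k) {T T' : Finset α} (hT : T.card ≤ k)
    (hTT' : T.card = T'.card) : Nat.card (fixer G T) = Nat.card (fixer G T') := by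
  obtain ⟨g, hg⟩ := h.exists_image hT hTT'
  rw [← hg, card_fixer_image]

theorem exists_image_of_homog {k : ℕ} (h : IsPretransitive G (Set.powersetCard α k))
    {T T' : Finset α} (hT : T.card = k) (hT' : T'.card = k) :
    ∃ g : G, T.image (fun x => g • x) = T' := by
  obtain ⟨g, hg⟩ := h.exists_smul_eq (⟨T, hT⟩ : Set.powersetCard α k) ⟨T', hT'⟩
  exact ⟨g, by have := congrArg Subtype.val hg; exact this⟩

omit [Fintype α] [DecidableEq α] in
theorem pow_smul_eq_of_sq_fix {g : G} {x : α} (hx : g • g • x = x) (m : ℕ) :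
    g ^ (2 * m + 1) • x = g • x := by
  induction m with
  | zero => rw [Nat.mul_zero, Nat.zero_add, pow_one]
  | succ m ih =>
    rw [show 2 * (m + 1) + 1 = (2 * m + 1) + 1 + 1 by ring, pow_succ, pow_succ, mul_smul, mul_smul,
      hx, ih]

omit [Fintype α] [DecidableEq α] in
/-- From any element, either an involution fixing all points it squares to fix, or an involution
agreeing with it on those points (or the element agrees with the identity there). -/
theorem exists_involution [Finite G] (g : G) :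
    (∃ h : G, h ≠ 1 ∧ h * h = 1 ∧ ∀ x : α, g • g • x = x → h • x = x) ∨
      ∃ h : G, h * h = 1 ∧ ∀ x : α, g • g • x = x → h • x = g • x := by
  obtain ⟨a, b, hb, hab⟩ := Nat.exists_eq_two_pow_mul_odd (orderOf_pos g).ne'
  obtain ⟨m, rfl⟩ := hb
  obtain ⟨h, hh⟩ : ∃ h, h = g ^ (2 * m + 1) := ⟨_, rfl⟩
  have hagree : ∀ x : α, g • g • x = x → h • x = g • x := fun x hx => hh ▸ pow_smul_eq_of_sq_fix hx m
  have hha : h ^ 2 ^ a = 1 := by
    rw [hh, ← pow_mul, mul_comm, ← hab, pow_orderOf_eq_one]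
  rcases a with _ | _ | a
  · exact Or.inr ⟨h, by rw [pow_zero, pow_one] at hha; rw [hha, mul_one], hagree⟩
  · exact Or.inr ⟨h, by rw [← sq]; simpa using hha, hagree⟩
  · refine Or.inl ⟨h ^ 2 ^ (a + 1), ?_, ?_, ?_⟩
    · intro h1
      rw [hh, ← pow_mul] at h1
      have h2 := Nat.le_of_dvd (by positivity) (orderOf_dvd_of_pow_eq_one h1)
      rw [hab, mul_comm] at h2
      have h3 : 2 ^ (a + 1) < 2 ^ (a + 1 + 1) := Nat.pow_lt_pow_right (by norm_num) (by omega)
      nlinarith
    · rw [← pow_add, ← two_mul, ← pow_succ', hha]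
    · intro x hx
      have h2 : h • h • x = x := by
        rw [hagree x hx, hagree (g • x) (by rw [hx]), hx]
      rw [pow_succ', pow_mul]
      generalize 2 ^ a = c
      induction c with
      | zero => rw [pow_zero, one_smul]
      | succ c ih => rw [pow_succ, mul_smul, sq, mul_smul, h2, ← sq, ih]

theorem involution_fix_parity {g : G} (hg : g * g = 1) :
    (fixSet g : Finset α).card % 2 = Fintype.card α % 2 := by
  have h2 : ∀ x : α, g • g • x = x := fun x => by rw [← mul_smul, hg, one_smul]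
  let f : Function.End α := fun x => g • x
  have hf : f ^ 2 ^ 1 = 1 := by
    funext x
    exact h2 x
  have h : Fintype.card α % 2 = Fintype.card f.fixedPoints % 2 :=
    Equiv.Perm.card_fixedPoints_modEq hf
  rw [h, fixSet, ← Fintype.card_subtype]
  exact congrArg (· % 2) (Fintype.card_congr (Equiv.subtypeEquivRight fun x => Iff.rfl))

/-- The permutations supported in `Δ` that are induced by elements of `G`. -/
def ind (G : Type*) {α : Type*} [Group G] [MulAction G α] [Fintype α] [DecidableEq α]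
    (Δ : Finset α) : Subgroup (Perm α) where
  carrier := {σ | (∀ x ∉ Δ, σ x = x) ∧ ∃ g : G, ∀ x ∈ Δ, g • x = σ x}
  one_mem' := ⟨fun _ _ => rfl, 1, fun _ _ => one_smul _ _⟩
  mul_mem' := by
    rintro σ τ ⟨hσ, g, hg⟩ ⟨hτ, g', hg'⟩
    refine ⟨fun x hx => by rw [Perm.mul_apply, hτ x hx, hσ x hx], g * g', fun x hx => ?_⟩
    have : τ x ∈ Δ := by
      by_contra h
      have h2 := τ.injective (hτ _ h)
      exact h (h2.symm ▸ hx)
    rw [mul_smul, hg' x hx, hg _ this, Perm.mul_apply]
  inv_mem' := by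
    rintro σ ⟨hσ, g, hg⟩
    have hout : ∀ x ∉ Δ, σ⁻¹ x = x := fun x hx => by
      rw [Perm.inv_eq_iff_eq, hσ x hx]
    refine ⟨hout, g⁻¹, fun x hx => ?_⟩
    have : σ⁻¹ x ∈ Δ := by
      by_contra h
      have h2 := hσ _ h
      rw [Perm.inv_def, Equiv.apply_symm_apply] at h2
      exact h (h2 ▸ hx)
    rw [inv_smul_eq_iff, hg _ this, Perm.inv_def, Equiv.apply_symm_apply]

theorem mem_ind {Δ : Finset α} {σ : Perm α} :
    σ ∈ ind G Δ ↔ (∀ x ∉ Δ, σ x = x) ∧ ∃ g : G, ∀ x ∈ Δ, g • x = σ x := Iff.rfl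

theorem swap_mem_ind {Δ : Finset α} {a b : α} (ha : a ∈ Δ) (hb : b ∈ Δ) (g : G)
    (hga : g • a = b) (hgb : g • b = a) (h : ∀ x ∈ Δ, x ≠ a → x ≠ b → g • x = x) :
    swap a b ∈ ind G Δ := by
  refine ⟨fun x hx => swap_apply_of_ne_of_ne (fun e => hx (e ▸ ha)) (fun e => hx (e ▸ hb)), g,
    fun x hx => ?_⟩
  by_cases h1 : x = a
  · rw [h1, swap_apply_left, hga]
  by_cases h2 : x = b
  · rw [h2, swap_apply_right, hgb]
  rw [swap_apply_of_ne_of_ne h1 h2, h x hx h1 h2]

/-- `Δ` has its full symmetric group induced. -/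
def Full (G : Type*) {α : Type*} [Group G] [MulAction G α] [Fintype α] [DecidableEq α]
    (Δ : Finset α) : Prop :=
  ∀ σ : Perm α, (∀ x ∉ Δ, σ x = x) → σ ∈ ind G Δ

/-- `Δ` has its alternating group induced. -/
def AltFull (G : Type*) {α : Type*} [Group G] [MulAction G α] [Fintype α] [DecidableEq α]
    (Δ : Finset α) : Prop :=
  ∀ σ : Perm α, (∀ x ∉ Δ, σ x = x) → Perm.sign σ = 1 → σ ∈ ind G Δ

theorem full_of_alt_odd {Δ : Finset α} (h : AltFull G Δ) {τ : Perm α} (hτ : τ ∈ ind G Δ)
    (hs : Perm.sign τ = -1) : Full G Δ := by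
  intro σ hσ
  rcases Int.units_eq_one_or (Perm.sign σ) with h1 | h1
  · exact h σ hσ h1
  · have h2 : σ * τ⁻¹ ∈ ind G Δ := h _ (fun x hx => by
      rw [Perm.mul_apply, (mem_ind.1 ((ind G Δ).inv_mem hτ)).1 x hx, hσ x hx])
      (by rw [map_mul, map_inv, h1, hs]; rfl)
    simpa using (ind G Δ).mul_mem h2 hτ

theorem ind_transport (g : G) {Δ : Finset α} {σ : Perm α} (h : σ ∈ ind G Δ) :
    toPerm g * σ * (toPerm g)⁻¹ ∈ ind G (Δ.image fun x => g • x) := by
  obtain ⟨hout, a, ha⟩ := h
  refine ⟨fun y hy => ?_, g * a * g⁻¹, fun y hy => ?_⟩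
  · have : g⁻¹ • y ∉ Δ := fun h => hy (Finset.mem_image.2 ⟨_, h, smul_inv_smul g y⟩)
    show g • σ (g⁻¹ • y) = y
    rw [hout _ this, smul_inv_smul]
  · obtain ⟨x, hx, rfl⟩ := Finset.mem_image.1 hy
    show (g * a * g⁻¹) • g • x = g • σ (g⁻¹ • g • x)
    rw [mul_smul, mul_smul, inv_smul_smul, ha x hx]

theorem AltFull.image {Δ : Finset α} (h : AltFull G Δ) (g : G) :
    AltFull G (Δ.image fun x => g • x) := by
  intro σ hσ hs
  have h1 : (toPerm g)⁻¹ * σ * toPerm g ∈ ind G Δ := h _ (fun x hx => by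
    show g⁻¹ • σ (g • x) = x
    rw [hσ (g • x) (fun hy => by
      obtain ⟨z, hz, e⟩ := Finset.mem_image.1 hy
      exact hx (MulAction.injective g e ▸ hz)), inv_smul_smul])
    (by rw [map_mul, map_mul, map_inv, hs, mul_one, inv_mul_cancel])
  have h2 := ind_transport g h1
  simpa [mul_assoc] using h2

theorem Full.image {Δ : Finset α} (h : Full G Δ) (g : G) : Full G (Δ.image fun x => g • x) := by
  intro σ hσ
  have h1 : (toPerm g)⁻¹ * σ * toPerm g ∈ ind G Δ := h _ (fun x hx => by
    show g⁻¹ • σ (g • x) = x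
    rw [hσ (g • x) (fun hy => by
      obtain ⟨z, hz, e⟩ := Finset.mem_image.1 hy
      exact hx (MulAction.injective g e ▸ hz)), inv_smul_smul])
  have h2 := ind_transport g h1
  simpa [mul_assoc] using h2

/-- A homogeneous group inducing a full symmetric group on one set is multiply transitive. -/
theorem trans_of_full {k : ℕ} (hh : IsPretransitive G (Set.powersetCard α k))
    (hk : k ≤ Fintype.card α) {Δ : Finset α} (hΔ : Δ.card = k) (hfull : Full G Δ) : Trans G α k := by
  intro T hT σ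
  obtain ⟨T', hTT', hT'⟩ := Finset.exists_superset_card_eq hT (by simpa using hk)
  obtain ⟨g, hg⟩ := exists_image_of_homog hh hT' (T' := T'.image σ)
    (by rw [Finset.card_image_of_injective _ σ.injective, hT'])
  obtain ⟨g', hg'⟩ := exists_image_of_homog hh hΔ hT'
  have hfull' : Full G T' := hg' ▸ hfull.image g'
  have hmem : ∀ x : {x // x ∈ T'}, g⁻¹ • σ x ∈ T' := by
    intro x
    have : σ x ∈ T'.image (fun y => g • y) := hg ▸ Finset.mem_image_of_mem σ x.2
    obtain ⟨y, hy, e⟩ := Finset.mem_image.1 this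
    rw [← e, inv_smul_smul]; exact hy
  let f : {x // x ∈ T'} → {x // x ∈ T'} := fun x => ⟨g⁻¹ • σ x, hmem x⟩
  have hf : Function.Bijective f := Finite.injective_iff_bijective.1 fun a b e =>
    Subtype.ext (σ.injective (MulAction.injective g⁻¹ (congrArg Subtype.val e)))
  obtain ⟨-, a, ha⟩ := hfull' (Perm.ofSubtype (Equiv.ofBijective f hf))
    (fun x hx => Perm.ofSubtype_apply_of_not_mem _ hx)
  refine ⟨g * a, fun x hx => ?_⟩
  rw [mul_smul, ha x (hTT' hx), Perm.ofSubtype_apply_of_mem (p := fun y => y ∈ T') _ (hTT' hx)]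
  show g • (g⁻¹ • σ x) = σ x
  rw [smul_inv_smul]

theorem altFull_of_homog {k : ℕ} (hh : IsPretransitive G (Set.powersetCard α k)) {Δ Δ' : Finset α}
    (hΔ : Δ.card = k) (hΔ' : Δ'.card = k) (h : AltFull G Δ) : AltFull G Δ' := by
  obtain ⟨g, hg⟩ := exists_image_of_homog hh hΔ hΔ'
  exact hg ▸ h.image g

/-- The alternating group is induced once all three-cycles are. -/
theorem altFull_of_three {Δ : Finset α}
    (h : ∀ σ : Perm α, (∀ x ∉ Δ, σ x = x) → σ.IsThreeCycle → σ ∈ ind G Δ) : AltFull G Δ := by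
  intro σ hσ hs
  let ι : Perm {x // x ∈ Δ} →* Perm α := Perm.ofSubtype
  have hle : alternatingGroup {x // x ∈ Δ} ≤ (ind G Δ).comap ι := by
    rw [← Equiv.Perm.closure_three_cycles_eq_alternating, Subgroup.closure_le]
    intro τ hτ
    refine h _ (fun x hx => Perm.ofSubtype_apply_of_not_mem _ hx) ?_
    rw [Set.mem_ofPred_eq, ← card_support_eq_three_iff] at hτ; rw [← card_support_eq_three_iff]
    rw [Perm.support_ofSubtype, Finset.card_map]
    convert hτ using 3
  have hclosed : ∀ x, σ x ∈ Δ ↔ x ∈ Δ := fun x => by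
    constructor
    · intro hx
      by_contra hn
      exact hn (hσ x hn ▸ hx)
    · intro hx
      by_contra hn
      exact hn ((σ.injective (hσ _ hn)).symm ▸ hx)
  have hmove : ∀ x, σ x ≠ x → x ∈ Δ := fun x hx => by_contra fun hn => hx (hσ x hn)
  have hre := Perm.ofSubtype_subtypePerm (f := σ) (p := fun x => x ∈ Δ) hclosed hmove
  rw [← hre]
  refine hle ?_
  rw [Perm.mem_alternatingGroup, ← Perm.sign_ofSubtype, hre]
  exact hs

end LW
end H59
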