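import Cfsg.Agent.H59.LW.Involution

/-!
Highly transitive groups: few orbits of the stabiliser of `k` points, and the sharply transitive case.
-/

set_option autoImplicit false

namespace H59
namespace LW

open Equiv MulAction

variable {G α : Type*} [Group G] [Finite G] [MulAction G α] [Fintype α] [DecidableEq α] {k : ℕ}

/-- Two points in one orbit of the pointwise stabiliser of `T`. -/
def Rel (G : Type*) {α : Type*} [Group G] [MulAction G α] (T : Finset α) (x y : α) : Prop :=
  ∃ h ∈ fixer G T, h • x = y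

/-- Among three points outside `T` two lie in one orbit. -/
def Two (G : Type*) {α : Type*} [Group G] [MulAction G α] (T : Finset α) : Prop :=
  ∀ x ∉ T, ∀ y ∉ T, ∀ w ∉ T, Rel G T x y ∨ Rel G T y w ∨ Rel G T x w

omit [Finite G] [Fintype α] in
theorem Rel.symm {T : Finset α} {x y : α} (h : Rel G T x y) : Rel G T y x := by
  obtain ⟨a, ha, rfl⟩ := h
  exact ⟨a⁻¹, (fixer G T).inv_mem ha, inv_smul_smul a x⟩

omit [Finite G] [Fintype α] in
theorem Rel.trans {T : Finset α} {x y w : α} (h : Rel G T x y) (h' : Rel G T y w) : Rel G T x w := by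
  obtain ⟨a, ha, rfl⟩ := h
  obtain ⟨b, hb, rfl⟩ := h'
  exact ⟨b * a, (fixer G T).mul_mem hb ha, mul_smul b a x⟩

/-- If few points lie outside `T`, two of any three are related. -/
theorem two_of_card (hP1 : ∀ g : G, k + 1 ≤ (fixSet g : Finset α).card → g = 1) {T : Finset α}
    (hT : T.card = k) (hlt : Fintype.card α - k < 3 * Nat.card (fixer G T)) : Two G T := by
  classical
  haveI : Fintype G := Fintype.ofFinite G
  obtain ⟨Hs, hHs⟩ : ∃ Hs : Finset G, ∀ g, g ∈ Hs ↔ g ∈ fixer G T :=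
    ⟨Finset.univ.filter (· ∈ fixer G T), fun g => by simp⟩
  have hcard : Hs.card = Nat.card (fixer G T) := by
    rw [← Nat.card_eq_finsetCard]
    exact Nat.card_congr (Equiv.subtypeEquivRight hHs)
  let O : α → Finset α := fun x => Hs.image fun g => g • x
  have hO : ∀ x ∉ T, (O x).card = Nat.card (fixer G T) := by
    intro x hx
    rw [← hcard]
    refine Finset.card_image_iff.2 fun g hg g' hg' e => ?_
    have hg1 := (hHs g).1 (Finset.mem_coe.1 hg)
    have hg2 := (hHs g').1 (Finset.mem_coe.1 hg')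
    have h3 : g⁻¹ * g' = 1 := by
      refine hP1 _ ?_
      have h4 : (insert x T : Finset α) ⊆ fixSet (g⁻¹ * g') := by
        intro v hv
        rw [mem_fixSet]
        rcases Finset.mem_insert.1 hv with rfl | hv
        · have e' : g • v = g' • v := e
          rw [mul_smul, ← e', inv_smul_smul]
        · exact mem_fixer.1 ((fixer G T).mul_mem ((fixer G T).inv_mem hg1) hg2) v hv
      have := Finset.card_le_card h4
      rw [Finset.card_insert_of_notMem hx, hT] at this
      exact this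
    exact inv_mul_eq_one.1 h3
  have hout : ∀ x ∉ T, O x ⊆ Tᶜ := by
    intro x hx v hv
    obtain ⟨g, hg, rfl⟩ := Finset.mem_image.1 hv
    rw [Finset.mem_compl]
    intro h
    have h1 := mem_fixer.1 ((fixer G T).inv_mem ((hHs g).1 hg)) _ h
    rw [inv_smul_smul] at h1
    exact hx (h1 ▸ h)
  have hdis : ∀ x y, ¬ Rel G T x y → Disjoint (O x) (O y) := by
    intro x y hne
    refine Finset.disjoint_left.2 fun v hv hv' => hne ?_
    obtain ⟨g, hg, rfl⟩ := Finset.mem_image.1 hv
    obtain ⟨g', hg', e⟩ := Finset.mem_image.1 hv'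
    exact Rel.trans ⟨g, (hHs g).1 hg, rfl⟩ (Rel.symm ⟨g', (hHs g').1 hg', e⟩)
  intro x hx y hy w hw
  by_contra hcon
  push Not at hcon
  obtain ⟨h1, h2, h3⟩ := hcon
  have hsub : O x ∪ O y ∪ O w ⊆ Tᶜ :=
    Finset.union_subset (Finset.union_subset (hout x hx) (hout y hy)) (hout w hw)
  have h4 := Finset.card_le_card hsub
  rw [Finset.card_union_of_disjoint (Finset.disjoint_union_left.2 ⟨hdis x w h3, hdis y w h2⟩),
    Finset.card_union_of_disjoint (hdis x y h1), hO x hx, hO y hy, hO w hw, Finset.card_compl, hT] at h4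
  omega

/-- With an involution fixing `k` points the stabiliser of `k` points has at most two orbits. -/
theorem two_of_involution (hk : 2 ≤ k) (hG : Trans G α k)
    (hP1 : ∀ g : G, k + 1 ≤ (fixSet g : Finset α).card → g = 1)
    {h : G} (hh1 : h ≠ 1) (hh : h * h = 1) (hhf : k ≤ (fixSet h : Finset α).card)
    {T : Finset α} (hT : T.card = k) : Two G T := by
  classical
  haveI : Fintype G := Fintype.ofFinite G
  refine two_of_card hP1 hT ?_
  obtain ⟨d, hd⟩ : ∃ d, d = Nat.card (fixer G T) := ⟨_, rfl⟩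
  have hdpos : 0 < d := hd ▸ Nat.card_pos
  rw [← hd]
  obtain ⟨E, -, hE⟩ := Finset.exists_subset_card_eq (s := T) (n := k - 2) (by omega)
  let P := {q : α × α // q.1 ≠ q.2 ∧ q.1 ∉ E ∧ q.2 ∉ E}
  have hPcard : ∀ q : P, (E ∪ {q.1.1, q.1.2}).card = k := by
    intro q
    rw [Finset.card_union_of_disjoint (by simp [q.2.2.1, q.2.2.2]), hE, Finset.card_pair q.2.1]
    omega
  have hst : ∀ q : P, Nat.card (fixer G (E ∪ {q.1.1, q.1.2})) = d := fun q => by
    rw [hd]; exact hG.card_fixer_eq (hPcard q).le ((hPcard q).trans hT.symm)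
  obtain ⟨T', hT'sub, hT'⟩ := Finset.exists_subset_card_eq hhf
  have heven : Even d := by
    have h1 : h ∈ fixer G T' := mem_fixer.2 fun x hx => mem_fixSet.1 (hT'sub hx)
    have h2 : orderOf (⟨h, h1⟩ : fixer G T') = 2 :=
      orderOf_eq_prime (Subtype.ext (by simpa [sq] using hh)) fun e => hh1 (congrArg Subtype.val e)
    have h3 := orderOf_dvd_natCard (⟨h, h1⟩ : fixer G T')
    rw [h2, hG.card_fixer_eq hT'.le (hT'.trans hT.symm), ← hd] at h3
    exact even_iff_two_dvd.2 h3
  have hz : ∀ q : P, ∃ z : G, z ≠ 1 ∧ z * z = 1 ∧ (∀ e ∈ E, z • e = e) ∧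
      z • q.1.1 = q.1.1 ∧ z • q.1.2 = q.1.2 := by
    intro q
    haveI : Fact (Nat.Prime 2) := ⟨Nat.prime_two⟩
    obtain ⟨z, hz⟩ := exists_prime_orderOf_dvd_card' (G := fixer G (E ∪ {q.1.1, q.1.2})) 2
      (by rw [hst q]; exact heven.two_dvd)
    rw [← Subgroup.orderOf_coe] at hz
    have hzm := mem_fixer.1 z.2
    refine ⟨z, fun e => by rw [e, orderOf_one] at hz; omega, ?_,
      fun e he => hzm e (Finset.mem_union_left _ he), hzm _ (by simp), hzm _ (by simp)⟩
    have h := pow_orderOf_eq_one (z : G)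
    rwa [hz, sq] at h
  choose z hz1 hz2 hzE hzx hzy using hz
  have honly : ∀ (q : P) (c : α), z q • c = c → c ∈ E ∨ c = q.1.1 ∨ c = q.1.2 := by
    intro q c hc
    by_contra hne
    refine hz1 q (hP1 _ ?_)
    have h4 : insert c (E ∪ {q.1.1, q.1.2}) ⊆ fixSet (z q) := by
      intro v hv
      rw [mem_fixSet]
      simp only [Finset.mem_insert, Finset.mem_union, Finset.mem_singleton] at hv
      rcases hv with rfl | hv | rfl | rfl
      exacts [hc, hzE q v hv, hzx q, hzy q]
    have := Finset.card_le_card h4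
    rw [Finset.card_insert_of_notMem (by simpa [and_comm, and_assoc] using hne), hPcard q] at this
    exact this
  let R := Σ r : P, {g : G // (∀ e ∈ E, g • e = e) ∧ g • r.1.1 = r.1.2 ∧ g • r.1.2 = r.1.1}
  have hswap : ∀ r : P, Fintype.card
      {g : G // (∀ e ∈ E, g • e = e) ∧ g • r.1.1 = r.1.2 ∧ g • r.1.2 = r.1.1} ≤ d := by
    intro r
    rw [← Nat.card_eq_fintype_card, ← hst r]
    rcases isEmpty_or_nonempty
      {g : G // (∀ e ∈ E, g • e = e) ∧ g • r.1.1 = r.1.2 ∧ g • r.1.2 = r.1.1} with he | ⟨⟨g0, h0⟩⟩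
    · simp
    refine Nat.card_le_card_of_injective (fun g => (⟨g0⁻¹ * g.1, mem_fixer.2 fun v hv => ?_⟩ :
      fixer G (E ∪ {r.1.1, r.1.2}))) ?_
    · simp only [Finset.mem_insert, Finset.mem_union, Finset.mem_singleton] at hv
      rw [mul_smul, inv_smul_eq_iff]
      rcases hv with hv | rfl | rfl
      · rw [g.2.1 v hv, h0.1 v hv]
      · rw [g.2.2.1, h0.2.1]
      · rw [g.2.2.2, h0.2.2]
    · exact fun g g' e => Subtype.ext (mul_left_cancel (congrArg Subtype.val e))
  let D := Σ q : P, {c : α // c ∈ (E ∪ {q.1.1, q.1.2})ᶜ}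
  let ψ : D → R := fun x => ⟨⟨(x.2.1, z x.1 • x.2.1), by
      have hm := x.2.2
      rw [Finset.mem_compl, Finset.mem_union] at hm
      push Not at hm
      refine ⟨fun e => ?_, hm.1, fun he => ?_⟩
      · rcases honly x.1 x.2.1 e.symm with h | h | h
        · exact hm.1 h
        · exact hm.2 (by simp [h])
        · exact hm.2 (by simp [h])
      · have h5 : z x.1 • (z x.1 • x.2.1) = z x.1 • x.2.1 := hzE x.1 _ he
        have h6 : z x.1 • x.2.1 = x.2.1 := MulAction.injective (z x.1) h5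
        have he' : z x.1 • x.2.1 ∈ E := he
        exact hm.1 (h6 ▸ he')⟩,
    ⟨z x.1, hzE x.1, rfl, (mul_smul _ _ _).symm.trans ((congrArg (· • x.2.1) (hz2 x.1)).trans (one_smul G _))⟩⟩
  have hfib : ∀ r ∈ Finset.univ.image ψ, (Finset.univ.filter (fun x => ψ x = r)).card ≤ 2 := by
    intro r hr
    simp only [Finset.mem_image, Finset.mem_univ, true_and] at hr
    obtain ⟨x₀, rfl⟩ := hr
    have hkey : ∀ x, ψ x = ψ x₀ → z x.1 = z x₀.1 ∧ x.2.1 = x₀.2.1 := fun x hx =>
      ⟨congrArg (fun r : R => r.2.1) hx, congrArg (fun r : R => r.1.1.1) hx⟩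
    have hmem : ∀ x : D, ψ x = ψ x₀ → x.1.1 = x₀.1.1 ∨ x.1.1 = (x₀.1.1.2, x₀.1.1.1) := by
      intro x hx
      have e := (hkey x hx).1
      have h1 := (honly x₀.1 x.1.1.1 (by rw [← e]; exact hzx _)).resolve_left x.1.2.2.1
      have h2 := (honly x₀.1 x.1.1.2 (by rw [← e]; exact hzy _)).resolve_left x.1.2.2.2
      have h3 := x.1.2.1
      rcases h1 with h1 | h1 <;> rcases h2 with h2 | h2
      · exact absurd (h1.trans h2.symm) h3
      · exact Or.inl (Prod.ext h1 h2)
      · exact Or.inr (Prod.ext h1 h2)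
      · exact absurd (h1.trans h2.symm) h3
    refine le_trans (Finset.card_le_card_of_injOn (t := {x₀.1.1, (x₀.1.1.2, x₀.1.1.1)})
      (fun x : D => x.1.1) ?_ ?_) (Finset.card_le_two)
    · intro x hx
      simp only [Finset.coe_filter, Finset.mem_univ, true_and, Set.mem_setOf_eq] at hx
      simp only [Finset.coe_insert, Finset.coe_singleton, Set.mem_insert_iff, Set.mem_singleton_iff]
      exact hmem x hx
    · intro x hx y hy hxy
      simp only [Finset.coe_filter, Finset.mem_univ, true_and, Set.mem_setOf_eq] at hx hy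
      have hq : x.1 = y.1 := Subtype.ext hxy
      have hc := (hkey x hx).2.trans (hkey y hy).2.symm
      obtain ⟨q, c, hcm⟩ := x
      obtain ⟨q', c', hcm'⟩ := y
      simp only at hq hc
      subst hq hc
      rfl
  have hle := Finset.card_le_mul_card_image (f := ψ) Finset.univ 2 hfib
  rw [Finset.card_univ] at hle
  have hD : Fintype.card D = Fintype.card P * (Fintype.card α - k) := by
    rw [Fintype.card_sigma, Finset.sum_const_nat (m := Fintype.card α - k), Finset.card_univ]
    intro q _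
    rw [Fintype.card_coe, Finset.card_compl, hPcard q]
  have hR : Fintype.card R ≤ Fintype.card P * d := by
    rw [Fintype.card_sigma, ← Finset.card_univ]
    exact (Finset.sum_le_card_nsmul _ _ _ (fun q _ => hswap q)).trans_eq (smul_eq_mul ..)
  have hP : 0 < Fintype.card P := by
    obtain ⟨a, ha, b, hb, hab⟩ := Finset.one_lt_card.1 (show 1 < Eᶜ.card by
      have := T.card_le_univ
      rw [Finset.card_compl, hE]
      omega)
    exact Fintype.card_pos_iff.2 ⟨⟨(a, b), hab, Finset.mem_compl.1 ha, Finset.mem_compl.1 hb⟩⟩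
  have h4 := hle.trans (Nat.mul_le_mul_left 2 ((Finset.card_le_univ _).trans hR))
  rw [hD] at h4
  have h5 : Fintype.card α - k ≤ 2 * d := by
    refine Nat.le_of_mul_le_mul_left ?_ hP
    calc Fintype.card P * (Fintype.card α - k) ≤ 2 * (Fintype.card P * d) := h4
      _ = Fintype.card P * (2 * d) := by ring
  omega

/-- Few orbits of `k`-point stabilisers force an alternating group on every `(k+1)`-set. -/
theorem altFull_of_two (hk : 3 ≤ k) (hG : Trans G α k)
    (hTwo : ∀ T : Finset α, T.card = k → Two G T) {Δ : Finset α} (hΔ : Δ.card = k + 1) :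
    AltFull G Δ := by
  refine altFull_of_three fun σ hσ hσ3 => ?_
  obtain ⟨x, hxΔ, hσx⟩ : ∃ x ∈ Δ, σ x = x := by
    by_contra hcon
    push Not at hcon
    have := Finset.card_le_card (show Δ ⊆ σ.support from fun v hv => Perm.mem_support.2 (hcon v hv))
    rw [hσ3.card_support] at this
    omega
  obtain ⟨T, hTdef⟩ : ∃ T, T = Δ.erase x := ⟨_, rfl⟩
  have hT : T.card = k := by rw [hTdef, Finset.card_erase_of_mem hxΔ, hΔ, Nat.add_sub_cancel]
  have hxT : x ∉ T := by rw [hTdef]; exact Finset.notMem_erase _ _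
  obtain ⟨g, hg⟩ := hG T hT.le σ
  have hσT : ∀ v ∈ T, σ v ∈ T := by
    intro v hv
    rw [hTdef, Finset.mem_erase] at hv ⊢
    refine ⟨fun e => hv.1 (σ.injective (e.trans hσx.symm)), ?_⟩
    by_contra hn
    exact hn ((σ.injective (hσ _ hn)).symm ▸ hv.2)
  have himg : T.image (fun v => g • v) = T := by
    refine Finset.eq_of_subset_of_card_le (fun v hv => ?_)
      (by rw [Finset.card_image_of_injective _ (MulAction.injective g)])
    obtain ⟨u, hu, rfl⟩ := Finset.mem_image.1 hv
    rw [hg u hu]; exact hσT u hu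
  have hgT : ∀ v ∈ T, g⁻¹ • v ∈ T := by
    intro v hv
    rw [← himg] at hv
    obtain ⟨u, hu, rfl⟩ := Finset.mem_image.1 hv
    rwa [inv_smul_smul]
  have hgout : ∀ v ∉ T, g • v ∉ T := fun v hv h => hv (by simpa using hgT _ h)
  have hmap : ∀ a b, Rel G T a b → Rel G T (g • a) (g • b) := by
    rintro a b ⟨h, hh, rfl⟩
    refine ⟨g * h * g⁻¹, mem_fixer.2 fun v hv => ?_, by rw [mul_smul, mul_smul, inv_smul_smul]⟩
    rw [mul_smul, mul_smul, mem_fixer.1 hh _ (hgT v hv), smul_inv_smul]
  have hmap' : ∀ a b, Rel G T (g • a) (g • b) → Rel G T a b := by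
    rintro a b ⟨h, hh, e⟩
    refine ⟨g⁻¹ * h * g, mem_fixer.2 fun v hv => ?_, by rw [mul_smul, mul_smul, e, inv_smul_smul]⟩
    rw [mul_smul, mul_smul, mem_fixer.1 hh _ (himg ▸ Finset.mem_image_of_mem _ hv), inv_smul_smul]
  have hsq : ∀ v ∉ T, Rel G T v (g • g • v) := by
    intro v hv
    rcases hTwo T hT v hv _ (hgout v hv) _ (hgout _ (hgout v hv)) with h | h | h
    · exact h.trans (hmap _ _ h)
    · exact (hmap' _ _ h).trans h
    · exact h
  obtain ⟨h, hh, he⟩ := (hsq x hxT).trans (hsq (g • g • x) (hgout _ (hgout x hxT)))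
  refine ⟨hσ, h⁻¹ * (g * g * (g * g)), fun v hv => ?_⟩
  rw [mul_smul]
  by_cases hvx : v = x
  · subst hvx
    simp only [mul_smul]
    rw [← he, inv_smul_smul, hσx]
  · have hvT : v ∈ T := hTdef ▸ Finset.mem_erase.2 ⟨hvx, hv⟩
    have h4 : σ (σ (σ (σ v))) = σ v := by
      have h5 := congrArg (fun e : Perm α => e (σ v)) (pow_orderOf_eq_one σ)
      rw [hσ3.orderOf] at h5
      simpa [pow_succ] using h5
    simp only [mul_smul]
    rw [hg v hvT, hg _ (hσT _ hvT), hg _ (hσT _ (hσT _ hvT)), hg _ (hσT _ (hσT _ (hσT _ hvT))), h4,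
      inv_smul_eq_iff]
    exact (mem_fixer.1 hh _ (hσT _ hvT)).symm

/-- An involution fixing `j - 2` points gives an odd permutation of some `j`-set. -/
theorem full_of_involution {j : ℕ} (hj : 2 ≤ j) [FaithfulSMul G α]
    (halt : ∀ Δ : Finset α, Δ.card = j → AltFull G Δ)
    {h : G} (hh1 : h ≠ 1) (hh : h * h = 1) (hf : j - 2 ≤ (fixSet h : Finset α).card) :
    ∃ Δ : Finset α, Δ.card = j ∧ Full G Δ := by
  obtain ⟨a, ha⟩ : ∃ a : α, h • a ≠ a := by
    by_contra hcon
    push Not at hcon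
    exact hh1 (FaithfulSMul.eq_of_smul_eq_smul fun x => by rw [one_smul]; exact hcon x)
  obtain ⟨E, hEsub, hE⟩ := Finset.exists_subset_card_eq hf
  have ha' : h • h • a = a := by rw [← mul_smul, hh, one_smul]
  have hd : Disjoint E {a, h • a} := by
    refine Finset.disjoint_left.2 fun v hv hv' => ?_
    have := mem_fixSet.1 (hEsub hv)
    simp only [Finset.mem_insert, Finset.mem_singleton] at hv'
    rcases hv' with rfl | rfl
    · exact ha this
    · exact ha (MulAction.injective h this)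
  have hcard : (E ∪ {a, h • a}).card = j := by
    rw [Finset.card_union_of_disjoint hd, hE, Finset.card_pair (Ne.symm ha)]; omega
  refine ⟨E ∪ {a, h • a}, hcard, full_of_alt_odd (halt _ hcard)
    (swap_mem_ind (by simp) (by simp) h rfl ha' fun v hv h1 h2 => ?_) (Perm.sign_swap (Ne.symm ha))⟩
  simp only [Finset.mem_union, Finset.mem_insert, Finset.mem_singleton] at hv
  rcases hv with hv | rfl | rfl
  · exact mem_fixSet.1 (hEsub hv)
  · exact absurd rfl h1
  · exact absurd rfl h2

/-- All transpositions induced gives the full symmetric group. -/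
theorem full_of_swaps {Δ : Finset α} (h : ∀ a ∈ Δ, ∀ b ∈ Δ, a ≠ b → swap a b ∈ ind G Δ) :
    Full G Δ := by
  intro σ hσ
  have hle : (⊤ : Subgroup (Perm {x // x ∈ Δ})) ≤ (ind G Δ).comap Perm.ofSubtype := by
    rw [← Equiv.Perm.closure_isSwap, Subgroup.closure_le]
    rintro _ ⟨a, b, hab, rfl⟩
    show Perm.ofSubtype (swap a b) ∈ ind G Δ
    rw [Perm.ofSubtype_swap_eq]
    exact h _ a.2 _ b.2 fun e => hab (Subtype.ext e)
  have hclosed : ∀ x, σ x ∈ Δ ↔ x ∈ Δ := fun x => by
    constructor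
    · intro hx
      by_contra hn
      exact hn (hσ x hn ▸ hx)
    · intro hx
      by_contra hn
      exact hn ((σ.injective (hσ _ hn)).symm ▸ hx)
  have hmove : ∀ x, σ x ≠ x → x ∈ Δ := fun x hx => by_contra fun hn => hx (hσ x hn)
  rw [← Perm.ofSubtype_subtypePerm (f := σ) (p := fun x => x ∈ Δ) hclosed hmove]
  exact hle (Subgroup.mem_top _)

/-- The sharply `k`-transitive case, `n - k` odd. -/
theorem full_of_sharp (hk : 4 ≤ k) (hkn : k ≤ Fintype.card α) (hG : Trans G α k)
    (hpar : (k - 1) % 2 = Fintype.card α % 2)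
    (hS : ∀ g : G, k ≤ (fixSet g : Finset α).card → g = 1) :
    ∃ Δ : Finset α, Δ.card = k + 1 ∧ Full G Δ := by
  classical
  have hexact : ∀ s : G, s ≠ 1 → s * s = 1 → k - 2 ≤ (fixSet s : Finset α).card →
      (fixSet s : Finset α).card = k - 1 := by
    intro s hs1 hs hf
    have h1 : (fixSet s : Finset α).card < k := by
      by_contra h
      exact hs1 (hS s (not_lt.1 h))
    have := involution_fix_parity (α := α) hs
    omega
  -- the basic move
  have star : ∀ s : G, s * s = 1 → ∀ a : α, s • a ≠ a → (fixSet s : Finset α).card = k - 1 →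
      ∀ u ∈ (fixSet s : Finset α), ∀ v ∈ (fixSet s : Finset α), u ≠ v →
      ∃ r : G, r * r = 1 ∧ r • u = v ∧
        fixSet r = (((fixSet s : Finset α) ∪ {a, s • a}).erase u).erase v := by
    intro s hs a ha hF u hu v hv huv
    obtain ⟨F, hFdef⟩ : ∃ F : Finset α, F = fixSet s := ⟨_, rfl⟩
    rw [← hFdef] at hF hu hv ⊢
    obtain ⟨e, he, heu, hev⟩ : ∃ e ∈ F, e ≠ u ∧ e ≠ v := by
      by_contra hcon
      push Not at hcon
      have h5 : F ⊆ {u, v} := fun w hw => by
        by_cases h1 : w = u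
        · simp [h1]
        · simp [hcon w hw h1]
      have := (Finset.card_le_card h5).trans Finset.card_le_two
      omega
    have hsa : s • s • a = a := by rw [← mul_smul, hs, one_smul]
    have hd : Disjoint F {a, s • a} := by
      refine Finset.disjoint_left.2 fun w hw hw' => ?_
      have := mem_fixSet.1 (hFdef ▸ hw)
      simp only [Finset.mem_insert, Finset.mem_singleton] at hw'
      rcases hw' with rfl | rfl
      · exact ha this
      · exact ha (MulAction.injective s this)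
    obtain ⟨Δ, hΔdef⟩ : ∃ Δ : Finset α, Δ = F ∪ {a, s • a} := ⟨_, rfl⟩
    rw [← hΔdef]
    have hΔ : Δ.card = k + 1 := by
      rw [hΔdef, Finset.card_union_of_disjoint hd, hF, Finset.card_pair (Ne.symm ha)]; omega
    have hFΔ : F ⊆ Δ := hΔdef ▸ Finset.subset_union_left
    obtain ⟨T, hTdef⟩ : ∃ T, T = Δ.erase e := ⟨_, rfl⟩
    have hT : T.card = k := by rw [hTdef, Finset.card_erase_of_mem (hFΔ he), hΔ, Nat.add_sub_cancel]
    have huT : u ∈ T := hTdef ▸ Finset.mem_erase.2 ⟨heu.symm, hFΔ hu⟩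
    have hvT : v ∈ T := hTdef ▸ Finset.mem_erase.2 ⟨hev.symm, hFΔ hv⟩
    obtain ⟨r, hr⟩ := hG T hT.le (swap u v)
    have hswapT : ∀ w ∈ T, swap u v w ∈ T := fun w hw => by
      rw [swap_apply_def]; split_ifs <;> assumption
    have hsT : ∀ w ∈ T, s • w ∈ T ∧ (w ∈ F ∨ w ≠ u ∧ w ≠ v ∧ s • w ≠ u ∧ s • w ≠ v) := by
      intro w hw
      rw [hTdef, Finset.mem_erase, hΔdef, Finset.mem_union] at hw
      rcases hw.2 with h | h
      · rw [mem_fixSet.1 (hFdef ▸ h)]
        exact ⟨hTdef ▸ Finset.mem_erase.2 ⟨hw.1, hFΔ h⟩, Or.inl h⟩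
      · have h' : s • w ∈ ({a, s • a} : Finset α) := by
          simp only [Finset.mem_insert, Finset.mem_singleton] at h ⊢
          rcases h with rfl | rfl
          · exact Or.inr rfl
          · exact Or.inl hsa
        refine ⟨hTdef ▸ Finset.mem_erase.2 ⟨fun h1 => Finset.disjoint_left.1 hd (h1 ▸ he) h',
          hΔdef ▸ Finset.mem_union_right _ h'⟩, Or.inr ⟨?_, ?_, ?_, ?_⟩⟩
        exacts [fun h1 => Finset.disjoint_left.1 hd hu (h1 ▸ h),
          fun h1 => Finset.disjoint_left.1 hd hv (h1 ▸ h),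
          fun h1 => Finset.disjoint_left.1 hd hu (h1 ▸ h'),
          fun h1 => Finset.disjoint_left.1 hd hv (h1 ▸ h')]
    have hr2 : r * r = 1 := hS _ (hT ▸ Finset.card_le_card fun w hw => mem_fixSet.2 (by
      rw [mul_smul, hr w hw, hr _ (hswapT w hw), swap_apply_self]))
    have hrs : ∀ w : α, r • s • w = s • r • w := by
      have h1 : (s * r)⁻¹ * (r * s) = 1 := hS _ (hT ▸ Finset.card_le_card fun w hw => mem_fixSet.2 (by
        rw [mul_smul, inv_smul_eq_iff, mul_smul, mul_smul]
        obtain ⟨h2, h3⟩ := hsT w hw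
        rw [hr _ h2, hr w hw]
        rcases h3 with h3 | ⟨h4, h5, h6, h7⟩
        · rw [mem_fixSet.1 (hFdef ▸ h3)]
          have h8 : swap u v w ∈ F := by
            rw [swap_apply_def]; split_ifs <;> assumption
          rw [mem_fixSet.1 (hFdef ▸ h8)]
        · rw [swap_apply_of_ne_of_ne h4 h5, swap_apply_of_ne_of_ne h6 h7]))
      intro w
      rw [← mul_smul, ← mul_smul, inv_mul_eq_one.1 h1]
    have hre : r • e = e := by
      have h1 : r • e ∈ F := by
        rw [hFdef, mem_fixSet, ← hrs, mem_fixSet.1 (show e ∈ fixSet s from hFdef ▸ he)]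
      by_contra hne
      have h2 : r • e ∈ T := hTdef ▸ Finset.mem_erase.2 ⟨hne, hFΔ h1⟩
      have h3 := hr _ (hswapT _ h2)
      rw [swap_apply_self] at h3
      have h4 := hswapT _ h2
      rw [← MulAction.injective r h3.symm] at h4
      rw [hTdef] at h4
      exact Finset.notMem_erase e Δ h4
    have hru : r • u = v := by rw [hr u huT, swap_apply_left]
    refine ⟨r, hr2, hru, ?_⟩
    have hsub : (Δ.erase u).erase v ⊆ fixSet r := by
      intro w hw
      simp only [Finset.mem_erase] at hw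
      rw [mem_fixSet]
      by_cases hwe : w = e
      · exact hwe ▸ hre
      · rw [hr w (hTdef ▸ Finset.mem_erase.2 ⟨hwe, hw.2.2⟩), swap_apply_of_ne_of_ne hw.2.1 hw.1]
    have hcard : ((Δ.erase u).erase v).card = k - 1 := by
      rw [Finset.card_erase_of_mem (Finset.mem_erase.2 ⟨huv.symm, hFΔ hv⟩),
        Finset.card_erase_of_mem (hFΔ hu), hΔ]
      omega
    have hr1 : r ≠ 1 := fun h => huv (by rw [← hru, h, one_smul])
    refine (Finset.eq_of_subset_of_card_le hsub ?_).symm
    rw [hcard, hexact r hr1 hr2 (le_trans (by omega) (Finset.card_le_card hsub))]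
  obtain ⟨z, hz1, hz, hzf⟩ := exists_fixing_involution (α := α) (by omega : 2 ≤ k) hkn hG
  have hF := hexact z hz1 hz hzf
  obtain ⟨F, hFdef⟩ : ∃ F : Finset α, F = fixSet z := ⟨_, rfl⟩
  obtain ⟨a, ha⟩ : ∃ a : α, z • a ≠ a := by
    by_contra hcon
    push Not at hcon
    refine hz1 (hS z ?_)
    rw [show (fixSet z : Finset α) = Finset.univ from Finset.eq_univ_of_forall fun x => mem_fixSet.2 (hcon x)]
    simpa using hkn
  have hza : z • z • a = a := by rw [← mul_smul, hz, one_smul]
  have hnotF : ∀ w ∈ ({a, z • a} : Finset α), w ∉ F := by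
    intro w hw hwF
    have := mem_fixSet.1 (hFdef ▸ hwF)
    simp only [Finset.mem_insert, Finset.mem_singleton] at hw
    rcases hw with rfl | rfl
    · exact ha this
    · exact ha (MulAction.injective z this)
  obtain ⟨Δ, hΔdef⟩ : ∃ Δ : Finset α, Δ = F ∪ {a, z • a} := ⟨_, rfl⟩
  have hΔ : Δ.card = k + 1 := by
    rw [hΔdef, Finset.card_union_of_disjoint (Finset.disjoint_right.2 hnotF), hFdef, hF,
      Finset.card_pair (Ne.symm ha)]
    omega
  have haΔ : a ∈ Δ := by rw [hΔdef]; simp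
  have hzaΔ : z • a ∈ Δ := by rw [hΔdef]; simp
  have hFΔ : F ⊆ Δ := hΔdef ▸ Finset.subset_union_left
  -- transpositions from an involution fixing all but two points of `Δ`
  have hmk : ∀ r : G, ∀ u v : α, r * r = 1 → r • u = v → u ∈ Δ → v ∈ Δ →
      fixSet r = (Δ.erase u).erase v → swap u v ∈ ind G Δ := by
    intro r u v hr2 hruv hu hv hfix
    refine swap_mem_ind hu hv r hruv (by rw [← hruv, ← mul_smul, hr2, one_smul]) fun w hw h1 h2 => ?_
    rw [← mem_fixSet, hfix]
    exact Finset.mem_erase.2 ⟨h2, Finset.mem_erase.2 ⟨h1, hw⟩⟩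
  have hswF : ∀ u ∈ F, ∀ v ∈ F, u ≠ v → swap u v ∈ ind G Δ := by
    intro u hu v hv huv
    obtain ⟨r, hr2, hr, hrfix⟩ := star z hz a ha hF u (hFdef ▸ hu) v (hFdef ▸ hv) huv
    rw [← hFdef, ← hΔdef] at hrfix
    exact hmk r u v hr2 hr (hFΔ hu) (hFΔ hv) hrfix
  have hswP : swap a (z • a) ∈ ind G Δ := by
    refine swap_mem_ind haΔ hzaΔ z rfl hza fun w hw h1 h2 => ?_
    rw [hΔdef, Finset.mem_union] at hw
    rcases hw with hw | hw
    · exact mem_fixSet.1 (hFdef ▸ hw)
    · simp only [Finset.mem_insert, Finset.mem_singleton] at hw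
      exact absurd hw (by tauto)
  have hswX : ∀ e ∈ F, ∀ b ∈ ({a, z • a} : Finset α), swap e b ∈ ind G Δ := by
    intro e he b hb
    obtain ⟨u, hu, v, hv, huv⟩ := Finset.one_lt_card.1 (show 1 < (F.erase e).card by
      rw [Finset.card_erase_of_mem he, hFdef, hF]; omega)
    rw [Finset.mem_erase] at hu hv
    obtain ⟨r, hr2, hr, hrfix⟩ := star z hz a ha hF u (hFdef ▸ hu.2) v (hFdef ▸ hv.2) huv
    rw [← hFdef, ← hΔdef] at hrfix
    have hru : r • u ≠ u := hr ▸ huv.symm
    have hr1 : r ≠ 1 := fun h => hru (by rw [h, one_smul])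
    have hrcard : (fixSet r : Finset α).card = k - 1 := by
      rw [hrfix, Finset.card_erase_of_mem (Finset.mem_erase.2 ⟨huv.symm, hFΔ hv.2⟩),
        Finset.card_erase_of_mem (hFΔ hu.2), hΔ]
      omega
    have hbΔ : b ∈ Δ := hΔdef ▸ Finset.mem_union_right _ hb
    have hbF : b ∉ F := hnotF b hb
    obtain ⟨t, ht2, ht, htfix⟩ := star r hr2 u hru hrcard e
      (hrfix ▸ Finset.mem_erase.2 ⟨hv.1.symm, Finset.mem_erase.2 ⟨hu.1.symm, hFΔ he⟩⟩) b
      (hrfix ▸ Finset.mem_erase.2 ⟨fun h => hbF (h ▸ hv.2),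
        Finset.mem_erase.2 ⟨fun h => hbF (h ▸ hu.2), hbΔ⟩⟩) (fun h => hbF (h ▸ he))
    refine hmk t e b ht2 ht (hFΔ he) hbΔ ?_
    rw [htfix, hrfix, hr]
    congr 2
    ext w
    simp only [Finset.mem_union, Finset.mem_erase, Finset.mem_insert, Finset.mem_singleton]
    constructor
    · rintro (h | rfl | rfl)
      exacts [h.2.2, hFΔ hu.2, hFΔ hv.2]
    · intro h
      by_cases h1 : w = u
      · exact Or.inr (Or.inl h1)
      by_cases h2 : w = v
      · exact Or.inr (Or.inr h2)
      exact Or.inl ⟨h2, h1, h⟩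
  refine ⟨Δ, hΔ, full_of_swaps fun p hp q hq hpq => ?_⟩
  rw [hΔdef, Finset.mem_union] at hp hq
  rcases hp with hp | hp <;> rcases hq with hq | hq
  · exact hswF p hp q hq hpq
  · exact hswX p hp q hq
  · exact swap_comm q p ▸ hswX q hq p hp
  · simp only [Finset.mem_insert, Finset.mem_singleton] at hp hq
    rcases hp with rfl | rfl <;> rcases hq with rfl | rfl
    exacts [absurd rfl hpq, hswP, by rw [swap_comm]; exact hswP, absurd rfl hpq]

end LW
end H59
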