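import Cfsg.Agent.H59.LW.AltSet

/-!
No four-transitive group has every five-set with exactly its alternating group induced (degree `≥ 7`).
-/

set_option autoImplicit false

namespace H59
namespace LW

open Equiv MulAction

universe u

/-- An element of order four with a fixed point gives an odd permutation of a five-set. -/
theorem full_of_four_cycle {G α : Type*} [Group G] [MulAction G α] [Fintype α] [DecidableEq α]
    (halt : ∀ Δ : Finset α, Δ.card = 5 → AltFull G Δ) {g : G} (h4 : g * g * (g * g) = 1) {e x : α}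
    (he : g • e = e) (hx : g • g • x ≠ x) : ∃ Δ : Finset α, Δ.card = 5 ∧ Full G Δ := by
  have h4' : ∀ w : α, g • g • g • g • w = w := fun w => by
    simp only [← mul_smul]; rw [← mul_assoc, ← mul_assoc] at *; rw [h4, one_smul]
  obtain ⟨a, ha⟩ : ∃ a, a = g • x := ⟨_, rfl⟩
  obtain ⟨b, hb⟩ : ∃ b, b = g • a := ⟨_, rfl⟩
  obtain ⟨c, hc⟩ : ∃ c, c = g • b := ⟨_, rfl⟩
  have hcx : g • c = x := by rw [hc, hb, ha, h4']
  have hbx : b ≠ x := by rw [hb, ha]; exact hx
  have hax : a ≠ x := fun h => hbx (by rw [hb, h, ← ha, h])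
  have hab : a ≠ b := fun h => hax (MulAction.injective g (show g • a = g • x by rw [← hb, ← ha]; exact h.symm))
  have hca : c ≠ a := fun h => hbx (MulAction.injective g (show g • b = g • x by rw [← hc, ← ha]; exact h))
  have hcb : c ≠ b := fun h => hab (MulAction.injective g (show g • a = g • b by rw [← hb, ← hc]; exact h.symm))
  have hcx' : c ≠ x := fun h => hax (by rw [ha, ← h, hcx]; exact h.symm)
  have hex : e ≠ x := fun h => hax (by rw [ha, ← h, he])
  have hea : e ≠ a := fun h => hex (MulAction.injective g (show g • e = g • x by rw [← ha, he]; exact h))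
  have heb : e ≠ b := fun h => hea (MulAction.injective g (show g • e = g • a by rw [← hb, he]; exact h))
  have hec : e ≠ c := fun h => heb (MulAction.injective g (show g • e = g • b by rw [← hc, he]; exact h))
  have hcard : ({e, x, a, b, c} : Finset α).card = 5 := by
    rw [Finset.card_insert_of_notMem, Finset.card_insert_of_notMem, Finset.card_insert_of_notMem,
      Finset.card_pair hcb.symm]
    · simp [hab, hca.symm]
    · simp [hax.symm, hbx.symm, hcx'.symm]
    · simp [hex, hea, heb, hec]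
  refine ⟨{e, x, a, b, c}, hcard, full_of_alt_odd (halt _ hcard)
    (τ := swap x a * swap a b * swap b c) ⟨fun w hw => ?_, g, fun w hw => ?_⟩ ?_⟩
  · simp only [Finset.mem_insert, Finset.mem_singleton, not_or] at hw
    obtain ⟨-, w1, w2, w3, w4⟩ := hw
    rw [Perm.mul_apply, Perm.mul_apply, swap_apply_of_ne_of_ne w3 w4, swap_apply_of_ne_of_ne w2 w3,
      swap_apply_of_ne_of_ne w1 w2]
  · simp only [Finset.mem_insert, Finset.mem_singleton] at hw
    simp only [Perm.mul_apply]
    rcases hw with rfl | rfl | rfl | rfl | rfl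
    · rw [swap_apply_of_ne_of_ne heb hec, swap_apply_of_ne_of_ne hea heb, swap_apply_of_ne_of_ne hex hea, he]
    · rw [swap_apply_of_ne_of_ne hbx.symm hcx'.symm, swap_apply_of_ne_of_ne hax.symm hbx.symm,
        swap_apply_left, ha]
    · rw [swap_apply_of_ne_of_ne hab hca.symm, swap_apply_left,
        swap_apply_of_ne_of_ne hbx hab.symm, hb]
    · rw [swap_apply_left, swap_apply_of_ne_of_ne hca hcb, swap_apply_of_ne_of_ne hcx' hca, hc]
    · rw [swap_apply_right, swap_apply_right, swap_apply_right, hcx]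
  · rw [Perm.sign_mul, Perm.sign_mul, Perm.sign_swap hax.symm, Perm.sign_swap hab, Perm.sign_swap hcb.symm]
    rfl

/-- A four-transitive group of degree at least seven with all five-sets inducing the alternating
group induces a symmetric group on some five-set. -/
theorem exists_full_five {G α : Type*} [Group G] [Finite G] [MulAction G α] [FaithfulSMul G α]
    [Fintype α] [DecidableEq α] (hn : 7 ≤ Fintype.card α) (hG : Trans G α 4)
    (halt : ∀ Δ : Finset α, Δ.card = 5 → AltFull G Δ) : ∃ Δ : Finset α, Δ.card = 5 ∧ Full G Δ := by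
  classical
  by_contra hno
  haveI : Fintype G := Fintype.ofFinite G
  have hP3 : ∀ g : G, g * g = 1 → 3 ≤ (fixSet g : Finset α).card → g = 1 := fun g hg hf =>
    by_contra fun h => hno (full_of_involution (j := 5) (by norm_num) halt h hg hf)
  have hP2 : ∀ g : G, g * g = 1 → 4 ≤ (fixSet g : Finset α).card → g = 1 :=
    fun g hg hf => hP3 g hg (by omega)
  have hno4 : ∀ g : G, g * g * (g * g) = 1 → ∀ e : α, g • e = e → g * g = 1 := by
    intro g h4 e he
    refine FaithfulSMul.eq_of_smul_eq_smul fun x : α => ?_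
    rw [one_smul, mul_smul]
    by_contra hx
    exact hno (full_of_four_cycle halt h4 he hx)
  obtain ⟨z, hz1, hz, hf⟩ := exists_fixing_involution (α := α) (k := 4) (by norm_num) (by omega) hG
  have hfk : (fixSet z : Finset α).card < 3 := by
    by_contra h
    exact hz1 (hP3 z hz (not_lt.1 h))
  obtain ⟨Φ, hΦ⟩ : ∃ Φ : Finset α, Φ = fixSet z := ⟨_, rfl⟩
  rw [← hΦ] at hf hfk
  obtain ⟨e₀, he₀⟩ := Finset.card_pos.1 (show 0 < Φ.card by omega)
  obtain ⟨W, hW⟩ : ∃ W : Finset α, W = Φᶜ := ⟨_, rfl⟩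
  have hWmem : ∀ w, w ∈ W ↔ z • w ≠ w := fun w => by
    rw [hW, Finset.mem_compl, hΦ, mem_fixSet]
  have hcardW : W.card + Φ.card = Fintype.card α := by
    rw [hW, Finset.card_compl]
    have := Φ.card_le_univ
    omega
  obtain ⟨x₀, hx₀⟩ := Finset.card_pos.1 (show 0 < W.card by omega)
  obtain ⟨X, hXdef⟩ : ∃ X : Subgroup G,
      X = Subgroup.centralizer ({z} : Set G) ⊓ fixer G Φ := ⟨_, rfl⟩
  have hX : ∀ g, g ∈ X ↔ g * z = z * g ∧ ∀ w ∈ Φ, g • w = w := fun g => by
    rw [hXdef, Subgroup.mem_inf, Subgroup.mem_centralizer_singleton_iff, mem_fixer]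
  have hzX : z ∈ X := (hX z).2 ⟨rfl, fun w hw => mem_fixSet.1 (hΦ ▸ hw)⟩
  have hzz : ∀ w : α, z • z • w = w := fun w => by rw [← mul_smul, hz, one_smul]
  have hcz : ∀ g ∈ X, ∀ w : α, g • z • w = z • g • w := fun g hg w => by
    rw [← mul_smul, ((hX g).1 hg).1, mul_smul]
  have hXW : ∀ g ∈ X, ∀ w ∈ W, g • w ∈ W := by
    intro g hg w hw
    rw [hWmem] at hw ⊢
    rw [← hcz g hg]
    exact fun h => hw (MulAction.injective g h)
  have hconn : ∀ y ∈ W, y ≠ x₀ → y ≠ z • x₀ →
      ∃ s τ : G, s ∈ X ∧ s • x₀ = y ∧ s * s = 1 ∧ τ * τ = 1 ∧ τ * z = z * τ ∧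
        τ • x₀ = x₀ ∧ ∀ w ∈ W, τ • w = w → w = x₀ ∨ w = z • x₀ := by
    intro y hy h1 h2
    obtain ⟨s, τ, hs1, hs2, hs3, hs4, hτ1, hτ2, hτ3, hτ4⟩ :=
      pair_lemma le_rfl hG hP2 hz1 hz (hΦ ▸ hf) ((hWmem x₀).1 hx₀) ((hWmem y).1 hy) h1 h2
    refine ⟨s, τ, (hX s).2 ⟨hs1, hΦ ▸ hs2⟩, hs3, ?_, hτ1, hτ2, hτ3,
      fun w hw => hτ4 w ((hWmem w).1 hw)⟩
    rcases hs4 with h | h
    · exact h
    · exact hno4 s (by rw [h, hz]) e₀ (hs2 e₀ (hΦ ▸ he₀))
  obtain ⟨y, hy, hy1, hy2⟩ : ∃ y ∈ W, y ≠ x₀ ∧ y ≠ z • x₀ := by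
    by_contra hcon
    push Not at hcon
    have h5 : W ⊆ {x₀, z • x₀} := fun w hw => by
      by_cases h1 : w = x₀
      · simp [h1]
      · simp [hcon w hw h1]
    have := (Finset.card_le_card h5).trans Finset.card_le_two
    omega
  obtain ⟨-, τ, -, -, -, hτ2, hτz, hτx, hτfix⟩ := hconn y hy hy1 hy2
  haveI : Fact (Nat.Prime 2) := ⟨Nat.prime_two⟩
  -- point stabilisers in `X` have odd order
  have hfree : ∀ g ∈ X, (∃ a : ℕ, g ^ 2 ^ a = 1) → ∀ w ∈ W, g • w = w → g = 1 := by
    intro g hg ha w hw hgw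
    have hd : Disjoint Φ {w, z • w} := Finset.disjoint_left.2 fun v hv hv' => by
      simp only [Finset.mem_insert, Finset.mem_singleton] at hv'
      rw [hΦ, mem_fixSet] at hv
      rcases hv' with rfl | rfl
      · exact (hWmem _).1 hw hv
      · exact (hWmem _).1 hw (MulAction.injective z hv)
    refine eq_one_of_two_power hP2 ha (T := Φ ∪ {w, z • w}) ?_ fun v hv => ?_
    · rw [Finset.card_union_of_disjoint hd, Finset.card_pair ((hWmem w).1 hw).symm]; omega
    · rcases Finset.mem_union.1 hv with h | h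
      · exact ((hX g).1 hg).2 v h
      · simp only [Finset.mem_insert, Finset.mem_singleton] at h
        rcases h with rfl | rfl
        · exact hgw
        · rw [hcz g hg, hgw]
  have hzcomm : ∀ g : X, g * ⟨z, hzX⟩ = ⟨z, hzX⟩ * g := fun g => Subtype.ext ((hX g).1 g.2).1
  -- a Sylow 2-subgroup normalised by `τ`
  have hτXmem : ∀ g : X, τ * (g : G) * τ ∈ X := by
    intro g
    refine (hX _).2 ⟨?_, fun w hw => ?_⟩
    · rw [mul_assoc _ τ z, hτz, ← mul_assoc, mul_assoc τ (g : G) z, ((hX _).1 g.2).1,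
        ← mul_assoc τ z (g : G), hτz, mul_assoc z τ (g : G), mul_assoc z (τ * (g : G)) τ]
    · have hw' : τ • w ∈ Φ := by
        rw [hΦ, mem_fixSet] at hw ⊢
        rw [← mul_smul, ← hτz, mul_smul, hw]
      rw [mul_smul, mul_smul, ((hX _).1 g.2).2 _ hw', ← mul_smul, hτ2, one_smul]
  let c : X ≃* X :=
    { toFun := fun g => ⟨τ * g * τ, hτXmem g⟩
      invFun := fun g => ⟨τ * g * τ, hτXmem g⟩
      left_inv := fun g => Subtype.ext (by
        show τ * (τ * (g : G) * τ) * τ = g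
        rw [show τ * (τ * (g : G) * τ) * τ = (τ * τ) * g * (τ * τ) by group, hτ2, one_mul, mul_one])
      right_inv := fun g => Subtype.ext (by
        show τ * (τ * (g : G) * τ) * τ = g
        rw [show τ * (τ * (g : G) * τ) * τ = (τ * τ) * g * (τ * τ) by group, hτ2, one_mul, mul_one])
      map_mul' := fun g g' => Subtype.ext (by
        show τ * ((g : G) * g') * τ = τ * g * τ * (τ * g' * τ)
        rw [show τ * (g : G) * τ * (τ * g' * τ) = τ * g * (τ * τ) * g' * τ by group, hτ2]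
        group) }
  have hcc : ∀ g, c (c g) = g := fun g => c.left_inv g
  obtain ⟨P, hP⟩ : ∃ P : Sylow 2 X, (P : Subgroup X).map c.toMonoidHom = (P : Subgroup X) := by
    haveI : Fintype (Sylow 2 X) := Fintype.ofFinite _
    have hsurj : Function.Surjective c.toMonoidHom := c.surjective
    let f : Function.End (Sylow 2 X) := fun Q => Q.mapSurjective hsurj
    have hf : f ^ 2 ^ 1 = 1 := by
      funext Q
      refine Sylow.ext ?_
      show ((Q : Subgroup X).map c.toMonoidHom).map c.toMonoidHom = (Q : Subgroup X)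
      rw [Subgroup.map_map]
      convert Subgroup.map_id (Q : Subgroup X) using 2
      ext g
      exact congrArg Subtype.val (hcc g)
    have h1 := Equiv.Perm.card_fixedPoints_modEq hf
    have h2 : Nat.card (Sylow 2 X) ≡ 1 [MOD 2] := card_sylow_modEq_one 2 X
    rw [Nat.card_eq_fintype_card] at h2
    have h3 : 0 < Fintype.card f.fixedPoints := by
      unfold Nat.ModEq at h1 h2
      omega
    obtain ⟨⟨Q, hQ⟩⟩ := Fintype.card_pos_iff.1 h3
    exact ⟨Q, congrArg (fun S : Sylow 2 X => (S : Subgroup X)) hQ⟩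
  -- it has exponent two and order at most four
  have hPexp : ∀ p ∈ (P : Subgroup X), (p : G) * p = 1 := by
    intro p hp
    obtain ⟨i, hi⟩ := P.2 ⟨p, hp⟩
    have hi' : (p : G) ^ 2 ^ i = 1 := by
      have := congrArg (fun u : (P : Subgroup X) => ((u : X) : G)) hi
      simpa using this
    clear hi
    suffices ∀ i : ℕ, ∀ g : G, g ∈ X → g ^ 2 ^ i = 1 → g * g = 1 from this i p p.2 hi'
    intro i
    induction i with
    | zero => intro g _ h; rw [pow_zero, pow_one] at h; rw [h, one_mul]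
    | succ i ih =>
      intro g hg h
      have h2 : g * g * (g * g) = 1 := ih (g * g) (X.mul_mem hg hg) (by
        rw [← sq, ← pow_mul, ← pow_succ', h])
      exact hno4 g h2 e₀ (((hX g).1 hg).2 e₀ he₀)
  have hPcomm : ∀ a ∈ (P : Subgroup X), ∀ b ∈ (P : Subgroup X), (a : G) * b = b * a := by
    intro a ha b hb
    have h1 := hPexp _ ((P : Subgroup X).mul_mem ha hb)
    rw [Subgroup.coe_mul] at h1
    have h2 := inv_eq_of_mul_eq_one_left h1
    rw [mul_inv_rev, inv_eq_of_mul_eq_one_left (hPexp a ha), inv_eq_of_mul_eq_one_left (hPexp b hb)] at h2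
    exact h2.symm
  obtain ⟨Ps, hPs⟩ : ∃ Ps : Finset X, ∀ g, g ∈ Ps ↔ g ∈ (P : Subgroup X) :=
    ⟨Finset.univ.filter (· ∈ (P : Subgroup X)), fun g => by simp⟩
  have hcP : ∀ g ∈ Ps, c g ∈ Ps := fun g hg => by
    rw [hPs] at hg ⊢
    rw [← hP]
    exact Subgroup.mem_map_of_mem _ hg
  have hzP : (⟨z, hzX⟩ : X) ∈ (P : Subgroup X) := by
    haveI hZn : (Subgroup.zpowers (⟨z, hzX⟩ : X)).Normal := ⟨fun a ha g => by
      obtain ⟨n, rfl⟩ := ha
      have hc' : Commute g (⟨z, hzX⟩ : X) := hzcomm g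
      rw [(hc'.zpow_right n).eq, mul_inv_cancel_right]
      exact ⟨n, rfl⟩⟩
    have hZp : IsPGroup 2 (Subgroup.zpowers (⟨z, hzX⟩ : X)) := IsPGroup.of_card (n := 1) (by
      rw [Nat.card_zpowers, pow_one]
      exact orderOf_eq_prime (Subtype.ext (by simpa [sq] using hz))
        (fun h => hz1 (congrArg Subtype.val h)))
    have h1 := P.3 (P.2.to_sup_of_normal_right hZp) le_sup_left
    exact h1 ▸ Subgroup.mem_sup_right (Subgroup.mem_zpowers _)
  have hP4 : Ps.card ≤ 4 := by
    obtain ⟨C, hC⟩ : ∃ C : Finset X, C = Ps.filter fun g => c g = g := ⟨_, rfl⟩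
    have hC2 : C.card ≤ 2 := by
      refine (Finset.card_le_card (t := {1, ⟨z, hzX⟩}) fun g hg => ?_).trans Finset.card_le_two
      rw [hC, Finset.mem_filter, hPs] at hg
      have hc' : τ * (g : G) * τ = g := congrArg Subtype.val hg.2
      have hτg : τ * (g : G) = g * τ := by
        calc τ * (g : G) = τ * g * (τ * τ) := by rw [hτ2, mul_one]
          _ = (τ * g * τ) * τ := by group
          _ = g * τ := by rw [hc']
      have hpow : ∀ q : X, q ∈ (P : Subgroup X) → ∃ a : ℕ, (q : G) ^ 2 ^ a = 1 :=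
        fun q hq => ⟨1, by rw [pow_one, sq]; exact hPexp q hq⟩
      rcases hτfix ((g : G) • x₀) (hXW g g.2 x₀ hx₀)
          (by rw [← mul_smul, hτg, mul_smul, hτx]) with h | h
      · have : (g : G) = 1 := hfree g g.2 (hpow g hg.1) x₀ hx₀ h
        simp [Subtype.ext_iff, this]
      · have hmem : (⟨z, hzX⟩ : X) * g ∈ (P : Subgroup X) := (P : Subgroup X).mul_mem hzP hg.1
        have h2 : (((⟨z, hzX⟩ : X) * g : X) : G) = 1 :=
          hfree _ ((⟨z, hzX⟩ : X) * g).2 (hpow _ hmem) x₀ hx₀ (by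
            rw [Subgroup.coe_mul, mul_smul, h, hzz])
        rw [Subgroup.coe_mul, mul_eq_one_iff_inv_eq, inv_eq_of_mul_eq_one_left hz] at h2
        simp [Subtype.ext_iff, h2.symm]
    refine (Finset.card_le_mul_card_image (f := fun g => g * c g) Ps 2 ?_).trans ?_
    · intro v hv
      obtain ⟨g', hg', rfl⟩ := Finset.mem_image.1 hv
      refine le_trans ?_ hC2
      refine Finset.card_le_card_of_injOn (fun g => g'⁻¹ * g) ?_ (fun a _ b _ e => mul_left_cancel e)
      intro g hg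
      simp only [Finset.coe_filter, Set.mem_ofPred_eq] at hg
      rw [Finset.mem_coe, hC, Finset.mem_filter]
      refine ⟨(hPs _).2 ((P : Subgroup X).mul_mem ((P : Subgroup X).inv_mem ((hPs _).1 hg'))
        ((hPs _).1 hg.1)), ?_⟩
      have hi : ∀ q : X, q ∈ Ps → q⁻¹ = q := fun q hq =>
        inv_eq_of_mul_eq_one_left (Subtype.ext (hPexp q ((hPs q).1 hq)))
      have hcm : ∀ q r : X, q ∈ Ps → r ∈ Ps → q * r = r * q := fun q r hq hr =>
        Subtype.ext (hPcomm q ((hPs q).1 hq) r ((hPs r).1 hr))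
      have he2 : g * c g = g' * c g' := hg.2
      rw [map_mul, map_inv, hi g' hg', hi (c g') (hcP g' hg')]
      have hsq : ∀ q : X, q ∈ Ps → q * q = 1 := fun q hq => Subtype.ext (hPexp q ((hPs q).1 hq))
      calc c g' * c g = (g' * g') * (c g' * c g) := by rw [hsq g' hg', one_mul]
        _ = g' * (g' * c g') * c g := by group
        _ = g' * (g * c g) * c g := by rw [he2]
        _ = g' * g * (c g * c g) := by group
        _ = g' * g := by
          rw [hsq (c g) (hcP g hg.1), mul_one]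
    · refine le_trans (Nat.mul_le_mul_left 2 ((Finset.card_le_card ?_).trans hC2)) (by norm_num)
      intro v hv
      obtain ⟨g, hg, rfl⟩ := Finset.mem_image.1 hv
      rw [hC, Finset.mem_filter]
      refine ⟨(hPs _).2 ((P : Subgroup X).mul_mem ((hPs _).1 hg) ((hPs _).1 (hcP g hg))), ?_⟩
      rw [map_mul, hcc]
      exact Subtype.ext (hPcomm _ ((hPs _).1 (hcP g hg)) _ ((hPs _).1 hg))
  -- the normaliser centralises it
  have hPN : Subgroup.normalizer ((P : Subgroup X) : Set X) ≤ Subgroup.centralizer ((P : Subgroup X) : Set X) := by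
    intro n hn
    rw [Subgroup.mem_centralizer_iff]
    intro a ha
    rw [SetLike.mem_coe] at ha
    by_contra hne
    obtain ⟨b, hb⟩ : ∃ b, b = n * a * n⁻¹ := ⟨_, rfl⟩
    have hbP : b ∈ (P : Subgroup X) := hb ▸ (Subgroup.mem_normalizer_iff.1 hn a).1 ha
    have hba : b ≠ a := fun h => hne (by
      rw [hb] at h; exact (mul_inv_eq_iff_eq_mul.1 h).symm)
    have hzn : n * (⟨z, hzX⟩ : X) * n⁻¹ = ⟨z, hzX⟩ := by rw [hzcomm n, mul_inv_cancel_right]
    have ha1 : a ≠ 1 := fun h => hne (by simp [h])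
    have haz : a ≠ ⟨z, hzX⟩ := fun h => hne (by rw [h]; exact (hzcomm n).symm)
    have hbmem : n * b * n⁻¹ ∈ (P : Subgroup X) := (Subgroup.mem_normalizer_iff.1 hn b).1 hbP
    have hconj : ∀ u v : X, n * u * n⁻¹ = n * v * n⁻¹ → u = v := fun u v h =>
      mul_left_cancel (mul_right_cancel h)
    have hb1 : b ≠ 1 := fun h => ha1 (hconj a 1 (by rw [← hb, h]; simp))
    have hbz : b ≠ ⟨z, hzX⟩ := fun h => haz (hconj a _ (by rw [← hb, h, hzn]))
    have hnb : n * b * n⁻¹ = a := by
      by_contra hna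
      have h1 : n * b * n⁻¹ ≠ 1 := fun h => hb1 (hconj b 1 (by rw [h]; simp))
      have h2 : n * b * n⁻¹ ≠ ⟨z, hzX⟩ := fun h => hbz (hconj b _ (by rw [h, hzn]))
      have h3 : n * b * n⁻¹ ≠ b := fun h => hba (hconj b a (by rw [h, hb]))
      have h5 : ({1, ⟨z, hzX⟩, a, b, n * b * n⁻¹} : Finset X) ⊆ Ps := by
        intro v hv
        rw [hPs]
        simp only [Finset.mem_insert, Finset.mem_singleton] at hv
        rcases hv with rfl | rfl | rfl | rfl | rfl
        exacts [(P : Subgroup X).one_mem, hzP, ha, hbP, hbmem]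
      have hz1' : (1 : X) ≠ ⟨z, hzX⟩ := fun h => hz1 (congrArg Subtype.val h).symm
      have h6 := Finset.card_le_card h5
      rw [Finset.card_insert_of_notMem, Finset.card_insert_of_notMem, Finset.card_insert_of_notMem,
        Finset.card_pair (Ne.symm h3)] at h6
      · omega
      · simp [hba.symm, Ne.symm hna]
      · simp [haz.symm, hbz.symm, Ne.symm h2]
      · simp [hz1', ha1.symm, hb1.symm, Ne.symm h1]
    obtain ⟨i, m, hm, hnm⟩ := Nat.exists_eq_two_pow_mul_odd (orderOf_pos n).ne'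
    have hodd : ∀ l : ℕ, n ^ (2 * l + 1) * a * (n ^ (2 * l + 1))⁻¹ = b := by
      intro l
      induction l with
      | zero => rw [Nat.mul_zero, Nat.zero_add, pow_one, hb]
      | succ l ih =>
        rw [show 2 * (l + 1) + 1 = 1 + 1 + (2 * l + 1) by ring, pow_add, pow_add, pow_one,
          show n * n * n ^ (2 * l + 1) * a * (n * n * n ^ (2 * l + 1))⁻¹ =
            n * (n * (n ^ (2 * l + 1) * a * (n ^ (2 * l + 1))⁻¹) * n⁻¹) * n⁻¹ by group,
          ih, hnb, hb]
    obtain ⟨l, rfl⟩ := hm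
    obtain ⟨w, hw⟩ : ∃ w, w = n ^ (2 * l + 1) := ⟨_, rfl⟩
    have hw2 : w ^ 2 ^ i = 1 := by rw [hw, ← pow_mul, mul_comm, ← hnm, pow_orderOf_eq_one]
    have hwn : w ∈ Subgroup.normalizer ((P : Subgroup X) : Set X) := hw ▸ pow_mem hn _
    have hwp : IsPGroup 2 (Subgroup.zpowers w) := by
      rintro ⟨v, j, rfl⟩
      exact ⟨i, Subtype.ext (by
        rw [SubmonoidClass.coe_pow]
        show (w ^ j) ^ 2 ^ i = 1
        rw [← zpow_natCast, ← zpow_mul, mul_comm, zpow_mul, zpow_natCast, hw2, one_zpow])⟩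
    have h1 := P.3 (P.2.to_sup_of_normal_left' hwp (Subgroup.zpowers_le.2 hwn)) le_sup_left
    have hwP : w ∈ (P : Subgroup X) := h1 ▸ Subgroup.mem_sup_right (Subgroup.mem_zpowers w)
    have := hodd l
    rw [← hw, Subtype.ext (hPcomm w hwP a ha) (a1 := w * a) (a2 := a * w), mul_inv_cancel_right] at this
    exact hba this.symm
  obtain ⟨φ, hφ⟩ : ∃ φ : X →* P, φ = MonoidHom.transferSylow P hPN := ⟨_, rfl⟩
  have hker : φ.ker.IsComplement' (P : Subgroup X) :=
    hφ ▸ MonoidHom.ker_transferSylow_isComplement' P hPN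
  have hkerodd : ¬ 2 ∣ Nat.card φ.ker := hφ ▸ MonoidHom.not_dvd_card_ker_transferSylow P hPN
  have hker2 : ∀ g : X, g ∈ φ.ker → g * g = 1 → g = 1 := by
    intro g hg hg2
    by_contra hg1
    have h1 : orderOf (⟨g, hg⟩ : φ.ker) = 2 :=
      orderOf_eq_prime (Subtype.ext (by simpa [sq] using hg2)) (fun h => hg1 (congrArg Subtype.val h))
    have h2 := orderOf_dvd_natCard (⟨g, hg⟩ : φ.ker)
    rw [h1] at h2
    exact hkerodd h2
  have hφz : φ ⟨z, hzX⟩ ≠ 1 := fun h => hz1 (congrArg Subtype.val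
    (hker2 _ h (Subtype.ext hz)))
  -- stabilisers of points map trivially
  have hstab : ∀ g : X, ∀ w ∈ W, (g : G) • w = w → φ g = 1 := by
    intro g w hw hgw
    obtain ⟨i, m, hm, hgm⟩ := Nat.exists_eq_two_pow_mul_odd (orderOf_pos g).ne'
    have h1 : ((g : G) ^ m) = 1 := by
      refine hfree _ (X.pow_mem g.2 m) ⟨i, ?_⟩ w hw ?_
      · rw [← pow_mul, mul_comm, ← hgm, ← SubmonoidClass.coe_pow, pow_orderOf_eq_one]; rfl
      · clear hgm hm
        induction m with
        | zero => rw [pow_zero, one_smul]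
        | succ m ih => rw [pow_succ, mul_smul, hgw, ih]
    have h2 : g ^ m = 1 := Subtype.ext (by rw [SubmonoidClass.coe_pow, h1]; rfl)
    have h3 : orderOf (φ g) ∣ m := orderOf_dvd_of_pow_eq_one (by rw [← map_pow, h2, map_one])
    obtain ⟨j, hj⟩ := P.2 (φ g)
    obtain ⟨l, -, hl⟩ := (Nat.dvd_prime_pow Nat.prime_two).1 (orderOf_dvd_of_pow_eq_one hj)
    rw [← orderOf_eq_one_iff]
    rw [hl] at h3 ⊢
    rcases l with _ | l
    · rfl
    · exact absurd ((dvd_pow_self 2 l.succ_ne_zero).trans h3) hm.not_two_dvd_nat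
  have hcov : ∀ y ∈ W, ∃ s : X, (s : G) • x₀ = y := by
    intro y hy
    by_cases h1 : y = x₀
    · exact ⟨1, by rw [h1]; exact one_smul _ _⟩
    by_cases h2 : y = z • x₀
    · exact ⟨⟨z, hzX⟩, h2.symm⟩
    obtain ⟨s, τ, hs, hs', -⟩ := hconn y hy h1 h2
    exact ⟨⟨s, hs⟩, hs'⟩
  have hOfix : ∀ o : X, φ o = 1 → (o : G) • x₀ = x₀ := by
    intro o ho
    obtain ⟨y, hy⟩ : ∃ y, y = ((o * ⟨z, hzX⟩ : X) : G) • x₀ := ⟨_, rfl⟩
    have hyW : y ∈ W := hy ▸ hXW _ (o * ⟨z, hzX⟩).2 x₀ hx₀
    by_cases h1 : y = x₀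
    · exfalso
      have := hstab (o * ⟨z, hzX⟩) x₀ hx₀ (hy ▸ h1)
      rw [map_mul, ho, one_mul] at this
      exact hφz this
    by_cases h2 : y = z • x₀
    · rw [h2, Subgroup.coe_mul, mul_smul, hcz o o.2] at hy
      exact (MulAction.injective z hy).symm
    exfalso
    obtain ⟨s, τ', hs, hs', hss, -⟩ := hconn y hyW h1 h2
    have h3 := hstab ((o * ⟨z, hzX⟩)⁻¹ * ⟨s, hs⟩) x₀ hx₀ (by
      rw [Subgroup.coe_mul, mul_smul, Subgroup.coe_inv, inv_smul_eq_iff]
      exact hs'.trans hy)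
    rw [map_mul, map_inv, map_mul, ho, one_mul, inv_mul_eq_one] at h3
    have h4 : (⟨z, hzX⟩ : X) * ⟨s, hs⟩ = 1 := by
      refine hker2 _ ?_ ?_
      · rw [MonoidHom.mem_ker, map_mul, ← h3, ← map_mul,
          show (⟨z, hzX⟩ : X) * ⟨z, hzX⟩ = 1 from Subtype.ext hz, map_one]
      · refine Subtype.ext ?_
        show z * s * (z * s) = 1
        rw [mul_assoc, ← mul_assoc s z s, ((hX s).1 hs).1, mul_assoc z s s, hss, mul_one, hz]
    have h5 : z * s = 1 := congrArg Subtype.val h4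
    rw [mul_eq_one_iff_inv_eq, inv_eq_of_mul_eq_one_left hz] at h5
    exact h2 (by rw [← hs', h5])
  have hkbot : φ.ker = ⊥ := by
    rw [Subgroup.eq_bot_iff_forall]
    intro o ho
    refine Subtype.ext (FaithfulSMul.eq_of_smul_eq_smul fun w : α => ?_)
    rw [Subgroup.coe_one, one_smul]
    by_cases hw : w ∈ W
    · obtain ⟨s, rfl⟩ := hcov w hw
      have h1 := hOfix (s⁻¹ * o * s) (by
        rw [map_mul, map_mul, map_inv, MonoidHom.mem_ker.1 ho, mul_one, inv_mul_cancel])
      rw [Subgroup.coe_mul, Subgroup.coe_mul, mul_smul, mul_smul, Subgroup.coe_inv, inv_smul_eq_iff] at h1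
      exact h1
    · exact ((hX _).1 o.2).2 w (by rw [hW, Finset.mem_compl, not_not] at hw; exact hw)
  have h1 := hker.card_mul_card
  rw [hkbot, Subgroup.card_bot, one_mul] at h1
  have h2 : Nat.card (P : Subgroup X) = Ps.card := by
    rw [← Nat.card_eq_finsetCard]
    exact (Nat.card_congr (Equiv.subtypeEquivRight hPs)).symm
  have h3 : W.card ≤ Nat.card X := by
    rw [← Nat.card_eq_finsetCard]
    refine Nat.card_le_card_of_surjective (fun g : X => (⟨(g : G) • x₀, hXW g g.2 x₀ hx₀⟩ : W)) ?_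
    rintro ⟨w, hw⟩
    obtain ⟨s, hs⟩ := hcov w hw
    exact ⟨s, Subtype.ext hs⟩
  omega

end LW
end H59
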