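import Cfsg.Agent.H59.LW.Homog
import Cfsg.Agent.H59.LW.Five

/-!
Auxiliary cases for the exceptions of the Livingstone–Wagner theorem.
-/

set_option autoImplicit false

namespace H59
namespace LW

open Equiv MulAction

/-- An involution with three cycles outside few enough fixed points is an odd permutation there. -/
theorem full_of_three_pairs {G α : Type*} [Group G] [MulAction G α] [Fintype α] [DecidableEq α]
    {j : ℕ} (hj : 6 ≤ j) (halt : ∀ Δ : Finset α, Δ.card = j → AltFull G Δ) {z : G} (hz : z * z = 1)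
    (hf : j - 6 ≤ (fixSet z : Finset α).card)
    (hm : (fixSet z : Finset α).card + 6 ≤ Fintype.card α) :
    ∃ Δ : Finset α, Δ.card = j ∧ Full G Δ := by
  classical
  obtain ⟨E, hEsub, hE⟩ := Finset.exists_subset_card_eq (s := (fixSet z : Finset α)) (n := j - 6) hf
  have hzz : ∀ w : α, z • z • w = w := fun w => by rw [← mul_smul, hz, one_smul]
  have hpick : ∀ S : Finset α, S.card + 1 ≤ Fintype.card α - (fixSet z : Finset α).card →
      ∃ a : α, z • a ≠ a ∧ a ∉ S := by
    intro S hS
    by_contra hcon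
    push Not at hcon
    have h1 : (fixSet z : Finset α)ᶜ ⊆ S := fun a ha =>
      hcon a fun e => (Finset.mem_compl.1 ha) (mem_fixSet.2 e)
    have h2 := Finset.card_le_card h1
    rw [Finset.card_compl] at h2
    omega
  obtain ⟨a, ha, -⟩ := hpick ∅ (by rw [Finset.card_empty]; omega)
  obtain ⟨b, hb, hbS⟩ := hpick {a, z • a} (by
    have := Finset.card_le_two (a := a) (b := z • a); omega)
  obtain ⟨c, hc, hcS⟩ := hpick {a, z • a, b, z • b} (by
    have := Finset.card_le_four (a := a) (b := z • a) (c := b) (d := z • b); omega)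
  simp only [Finset.mem_insert, Finset.mem_singleton, not_or] at hbS hcS
  obtain ⟨hba, hbza⟩ := hbS
  obtain ⟨hca, hcza, hcb, hczb⟩ := hcS
  replace hba : b ≠ a := hba
  replace hbza : b ≠ z • a := hbza
  replace hca : c ≠ a := hca
  replace hcza : c ≠ z • a := hcza
  replace hcb : c ≠ b := hcb
  replace hczb : c ≠ z • b := hczb
  have hza : z • z • a ≠ z • a := fun h => ha (MulAction.injective z h)
  have hzba : z • b ≠ a := fun h => hbza (by rw [← h, hzz])
  have hzbza : z • b ≠ z • a := fun h => hba (MulAction.injective z h)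
  have hzca : z • c ≠ a := fun h => hcza (by rw [← h, hzz])
  have hzcza : z • c ≠ z • a := fun h => hca (MulAction.injective z h)
  have hzcb : z • c ≠ b := fun h => hczb (by rw [← h, hzz])
  have hzczb : z • c ≠ z • b := fun h => hcb (MulAction.injective z h)
  obtain ⟨M, hM⟩ : ∃ M : Finset α, M = {a, z • a, b, z • b, c, z • c} := ⟨_, rfl⟩
  have hMcard : M.card = 6 := by
    rw [hM, Finset.card_insert_of_notMem, Finset.card_insert_of_notMem, Finset.card_insert_of_notMem,
      Finset.card_insert_of_notMem, Finset.card_pair hc.symm]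
    · simp [hczb.symm, hzczb.symm]
    · simp [hb.symm, hcb.symm, hzcb.symm]
    · simp [hbza.symm, hzbza.symm, hcza.symm, hzcza.symm]
    · simp [ha.symm, hba.symm, hzba.symm, hca.symm, hzca.symm]
  have hMmove : ∀ w ∈ M, z • w ≠ w := by
    intro w hw
    rw [hM] at hw
    simp only [Finset.mem_insert, Finset.mem_singleton] at hw
    rcases hw with rfl | rfl | rfl | rfl | rfl | rfl
    exacts [ha, hza, hb, fun h => hb (MulAction.injective z h), hc, fun h => hc (MulAction.injective z h)]
  have hd : _root_.Disjoint E M := Finset.disjoint_left.2 fun w hwE hwM =>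
    hMmove w hwM (mem_fixSet.1 (hEsub hwE))
  have hcard : (E ∪ M).card = j := by rw [Finset.card_union_of_disjoint hd, hE, hMcard]; omega
  refine ⟨E ∪ M, hcard, full_of_alt_odd (halt _ hcard)
    (τ := swap a (z • a) * swap b (z • b) * swap c (z • c))
    ⟨fun w hw => ?_, z, fun w hw => ?_⟩ ?_⟩
  · rw [Finset.mem_union, hM] at hw
    simp only [Finset.mem_insert, Finset.mem_singleton, not_or] at hw
    obtain ⟨-, w1, w2, w3, w4, w5, w6⟩ := hw
    simp [Perm.mul_apply, swap_apply_of_ne_of_ne, w1, w2, w3, w4, w5, w6]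
  · rcases Finset.mem_union.1 hw with hw | hw
    · have hne : ∀ v ∈ M, w ≠ v := fun v hv h => Finset.disjoint_left.1 hd hw (h ▸ hv)
      rw [mem_fixSet.1 (hEsub hw)]
      rw [hM] at hne
      simp [Perm.mul_apply, swap_apply_of_ne_of_ne, hne]
    · rw [hM] at hw
      simp only [Finset.mem_insert, Finset.mem_singleton] at hw
      rcases hw with rfl | rfl | rfl | rfl | rfl | rfl <;>
        simp [Perm.mul_apply, swap_apply_left, swap_apply_right,
          swap_apply_of_ne_of_ne, hzz, ha.symm, hb.symm, hba, hba.symm, hbza, hbza.symm, hca, hca.symm,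
          hcza, hcza.symm, hcb, hcb.symm, hczb, hczb.symm, hzba, hzba.symm, hzbza, hzbza.symm, hzca,
          hzca.symm, hzcza, hzcza.symm, hzcb, hzcb.symm, hzczb, hzczb.symm]
  · rw [Perm.sign_mul, Perm.sign_mul, Perm.sign_swap ha.symm,
      Perm.sign_swap hb.symm, Perm.sign_swap hc.symm]
    rfl

theorem prime_fix_modEq {G α : Type*} [Group G] [MulAction G α] [Fintype α] [DecidableEq α]
    {p : ℕ} [Fact p.Prime] {g : G} (hg : g ^ p = 1) :
    (fixSet g : Finset α).card % p = Fintype.card α % p := by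
  let f : Function.End α := fun x => g • x
  have hf : f ^ p ^ 1 = 1 := by
    have h1 : f = MulAction.toEndHom g := rfl
    rw [pow_one, h1, ← map_pow, hg, map_one]
  have h : Fintype.card α % p = Fintype.card f.fixedPoints % p :=
    Equiv.Perm.card_fixedPoints_modEq hf
  rw [h, fixSet, ← Fintype.card_subtype]
  exact congrArg (· % p) (Fintype.card_congr (Equiv.subtypeEquivRight fun x => Iff.rfl))

/-- A 3-homogeneous group of order 60 on six points has no involution fixing two points. -/
theorem no_six {G α : Type*} [Group G] [Finite G] [MulAction G α] [Fintype α] [DecidableEq α]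
    (hn : Fintype.card α = 6) (hh : IsPretransitive G (Set.powersetCard α 3))
    (hP : ∀ g : G, 3 ≤ (fixSet g : Finset α).card → g = 1) (hG : Nat.card G = 60)
    {T : Finset α} (hT : T.card = 2) (hs : Nat.card (fixer G T) = 2) : False := by
  classical
  haveI : Fact (Nat.Prime 2) := ⟨Nat.prime_two⟩
  obtain ⟨z, hz⟩ := exists_prime_orderOf_dvd_card' (G := fixer G T) 2 (by rw [hs])
  rw [← Subgroup.orderOf_coe] at hz
  obtain ⟨a, ha⟩ := Finset.card_pos.1 (show 0 < T.card by omega)
  have hza : (z : G) • a = a := mem_fixer.1 z.2 a ha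
  obtain ⟨x, hx⟩ : ∃ x : α, (z : G) • x ≠ x := by
    by_contra hcon
    push Not at hcon
    have h1 := hP (z : G) (by
      rw [show (fixSet (z : G) : Finset α) = Finset.univ from
        Finset.eq_univ_iff_forall.2 fun v => mem_fixSet.2 (hcon v), Finset.card_univ, hn]
      norm_num)
    rw [h1, orderOf_one] at hz
    omega
  have hzz : (z : G) • (z : G) • x = x := by
    rw [← mul_smul, ← sq, ← hz, pow_orderOf_eq_one, one_smul]
  have hax : a ≠ x := fun h => hx (h ▸ hza)
  have hazx : a ≠ (z : G) • x := fun h => hax (MulAction.injective (z : G) (hza.trans h))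
  have hA : ({a, x, (z : G) • x} : Finset α).card = 3 := by
    rw [Finset.card_insert_of_notMem, Finset.card_pair hx.symm]
    simp [hax, hazx]
  obtain ⟨A, hAdef⟩ : ∃ A : Set.powersetCard α 3, (A : Finset α) = {a, x, (z : G) • x} :=
    ⟨⟨_, hA⟩, rfl⟩
  have hzA : (z : G) ∈ stabilizer G A := by
    refine Subtype.ext ?_
    show (A : Finset α).image (fun v => (z : G) • v) = (A : Finset α)
    rw [hAdef]
    simp [Finset.image_insert, hza, hzz, Finset.pair_comm]
  have h1 := index_stabilizer_of_transitive (G := G) A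
  rw [Set.powersetCard.card, Nat.card_eq_fintype_card, hn] at h1
  have h2 := (stabilizer G A).card_mul_index
  rw [h1, hG, show Nat.choose 6 3 = 20 by decide] at h2
  have h3 := orderOf_dvd_natCard (⟨(z : G), hzA⟩ : stabilizer G A)
  rw [← Subgroup.orderOf_coe, show Nat.card (stabilizer G A) = 3 by omega] at h3
  change orderOf (z : G) ∣ 3 at h3
  rw [hz] at h3
  omega

/-- No group of order 210 on seven points has all non-trivial elements fixing at most two points. -/
theorem no_seven {α : Type*} [Fintype α] [DecidableEq α] (G : Subgroup (Perm α))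
    (hn : Fintype.card α = 7) (hP : ∀ g : G, 3 ≤ (fixSet g : Finset α).card → g = 1)
    {a : α} (hL : Nat.card (fixer G ({a} : Finset α)) = 30) : False := by
  classical
  obtain ⟨L, hLdef⟩ : ∃ L, L = fixer G ({a} : Finset α) := ⟨_, rfl⟩
  rw [← hLdef] at hL
  have hLa : ∀ g : L, a ∈ (fixSet (g : G) : Finset α) := fun g =>
    mem_fixSet.2 (mem_fixer.1 (show (g : G) ∈ fixer G {a} from hLdef ▸ g.2) a (Finset.mem_singleton_self a))
  have hcount : ∀ (p : ℕ) [Fact p.Prime] (g : L), orderOf g = p →
      (fixSet (g : G) : Finset α).card % p = 7 % p ∧ 0 < (fixSet (g : G) : Finset α).card ∧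
        (fixSet (g : G) : Finset α).card < 3 := by
    intro p _ g hg
    refine ⟨hn ▸ prime_fix_modEq ?_, Finset.card_pos.2 ⟨a, hLa g⟩, ?_⟩
    · rw [← SubmonoidClass.coe_pow, ← hg, pow_orderOf_eq_one]; rfl
    · by_contra hcon
      have h1 : g = 1 := Subtype.ext (hP _ (not_lt.1 hcon))
      rw [h1, orderOf_one] at hg
      exact (Fact.out : p.Prime).one_lt.ne hg
  -- an odd involution
  obtain ⟨φ, hφ⟩ : ∃ φ : L →* ℤˣ, φ = Perm.sign.comp (G.subtype.comp L.subtype) := ⟨_, rfl⟩
  have hsurj : Function.Surjective φ := by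
    haveI : Fact (Nat.Prime 2) := ⟨Nat.prime_two⟩
    obtain ⟨t, ht⟩ := exists_prime_orderOf_dvd_card' (G := L) 2 (by rw [hL]; norm_num)
    obtain ⟨h1, h2, h3⟩ := hcount 2 t ht
    have hord : orderOf (((t : G) : Perm α)) = 2 := by
      rw [Subgroup.orderOf_coe, Subgroup.orderOf_coe, ht]
    obtain ⟨m, hm⟩ := Perm.cycleType_prime_order (σ := ((t : G) : Perm α)) (by rw [hord]; exact Nat.prime_two)
    have hsupp : ((t : G) : Perm α).support = (fixSet (t : G) : Finset α)ᶜ := by
      ext v
      rw [Perm.mem_support, Finset.mem_compl, mem_fixSet]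
      rfl
    have hsum := Perm.sum_cycleType ((t : G) : Perm α)
    rw [hm, hord, Multiset.sum_replicate, smul_eq_mul, hsupp, Finset.card_compl, hn] at hsum
    have hsgn : φ t = -1 := by
      have h4 := Perm.sign_of_cycleType ((t : G) : Perm α)
      rw [hm, hord, Multiset.sum_replicate, smul_eq_mul, Multiset.card_replicate,
        show m = 2 by omega] at h4
      rw [hφ]
      exact h4.trans (by decide)
    intro u
    rcases Int.units_eq_one_or u with rfl | rfl
    · exact ⟨1, map_one φ⟩
    · exact ⟨t, hsgn⟩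
  have hK : Nat.card φ.ker = 15 := by
    have h1 := φ.ker.card_mul_index
    rw [Subgroup.index_ker, MonoidHom.range_eq_top.2 hsurj, Subgroup.card_top,
      Nat.card_eq_fintype_card (α := ℤˣ), Fintype.card_units_int, hL] at h1
    omega
  have hone : ∀ p : ℕ, p = 3 ∨ p = 5 → ∀ _ : Fact p.Prime, Subsingleton (Sylow p φ.ker) := by
    intro p hp _
    have h1 : Nat.card (Sylow p φ.ker) ≡ 1 [MOD p] := card_sylow_modEq_one p φ.ker
    have h2 : Nat.card (Sylow p φ.ker) ∣ 15 := by
      obtain ⟨P⟩ : Nonempty (Sylow p φ.ker) := inferInstance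
      exact (P.card_dvd_index).trans (hK ▸ Subgroup.index_dvd_card _)
    have h3 : Nat.card (Sylow p φ.ker) ≤ 15 := Nat.le_of_dvd (by norm_num) h2
    have h4 : Nat.card (Sylow p φ.ker) = 1 := by
      unfold Nat.ModEq at h1
      generalize Nat.card (Sylow p φ.ker) = d at h1 h2 h3
      interval_cases d <;> rcases hp with rfl | rfl <;> omega
    exact (Nat.card_eq_one_iff_unique.1 h4).1
  haveI : Fact (Nat.Prime 3) := ⟨by norm_num⟩
  haveI : Fact (Nat.Prime 5) := ⟨by norm_num⟩
  haveI := hone 3 (Or.inl rfl) inferInstance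
  haveI := hone 5 (Or.inr rfl) inferInstance
  obtain ⟨P⟩ : Nonempty (Sylow 3 φ.ker) := inferInstance
  obtain ⟨Q⟩ : Nonempty (Sylow 5 φ.ker) := inferInstance
  obtain ⟨u, hu⟩ := exists_prime_orderOf_dvd_card' (G := φ.ker) 3 (by rw [hK]; norm_num)
  obtain ⟨v, hv⟩ := exists_prime_orderOf_dvd_card' (G := φ.ker) 5 (by rw [hK]; norm_num)
  have hmem : ∀ (p : ℕ) [Fact p.Prime] [Subsingleton (Sylow p φ.ker)] (R : Sylow p φ.ker) (g : φ.ker),
      orderOf g = p → g ∈ (R : Subgroup φ.ker) := by
    intro p _ _ R g hg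
    obtain ⟨S, hS⟩ := (IsPGroup.of_card (p := p) (G := Subgroup.zpowers g) (n := 1)
      (by rw [Nat.card_zpowers, hg, pow_one])).exists_le_sylow
    rw [Subsingleton.elim R S]
    exact hS (Subgroup.mem_zpowers g)
  have huv : Commute u v := Subgroup.commute_of_normal_of_disjoint (P : Subgroup φ.ker) (Q : Subgroup φ.ker)
    (Sylow.normal_of_subsingleton P) (Sylow.normal_of_subsingleton Q)
    (IsPGroup.disjoint_of_ne 3 5 (by norm_num) _ _ P.2 Q.2) u v (hmem 3 P u hu) (hmem 5 Q v hv)
  obtain ⟨u1, u2, u3⟩ := hcount 3 (u : L) ((Subgroup.orderOf_coe u).trans hu)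
  obtain ⟨v1, v2, v3⟩ := hcount 5 (v : L) ((Subgroup.orderOf_coe v).trans hv)
  obtain ⟨U, hU⟩ : ∃ U : G, U = ((u : L) : G) := ⟨_, rfl⟩
  obtain ⟨V, hV⟩ : ∃ V : G, V = ((v : L) : G) := ⟨_, rfl⟩
  have hcomm : U * V = V * U := by
    rw [hU, hV]; exact congrArg (fun g : φ.ker => ((g : L) : G)) huv.eq
  rw [← hU] at u1 u2 u3
  rw [← hV] at v1 v2 v3
  have hUfix : (fixSet V : Finset α) ⊆ fixSet U := by
    have haU : a ∈ (fixSet U : Finset α) := hU ▸ hLa (u : L)
    have haV : a ∈ (fixSet V : Finset α) := hV ▸ hLa (v : L)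
    intro w hw
    by_cases hwa : w = a
    · exact hwa ▸ haU
    rw [mem_fixSet]
    by_contra hne
    have hmem' : U • w ∈ (fixSet V : Finset α) := by
      rw [mem_fixSet] at hw ⊢
      rw [← mul_smul, ← hcomm, mul_smul, hw]
    have hUa : U • a = a := mem_fixSet.1 haU
    have h5 : ({a, w, U • w} : Finset α) ⊆ fixSet V := by
      intro x hx
      simp only [Finset.mem_insert, Finset.mem_singleton] at hx
      rcases hx with rfl | rfl | rfl
      exacts [haV, hw, hmem']
    have h6 := Finset.card_le_card h5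
    rw [Finset.card_insert_of_notMem, Finset.card_pair (Ne.symm hne)] at h6
    · omega
    · simp only [Finset.mem_insert, Finset.mem_singleton, not_or]
      exact ⟨Ne.symm hwa, fun h => hwa (MulAction.injective U (hUa.trans h)).symm⟩
  have := Finset.card_le_card hUfix
  omega

end LW
end H59
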