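import Cfsg.Agent.H59.LW.AltSet
import Cfsg.Agent.S0735
import Cfsg.Agent.S0736
import Cfsg.Agent.S0744

/-!
The Livingstone–Wagner theorem, first form.
-/

set_option autoImplicit false

namespace H59
namespace LW

open Equiv MulAction

universe u

section General

variable {G α : Type*} [Group G] [Finite G] [MulAction G α] [Fintype α] [DecidableEq α] {k : ℕ}

theorem card_eq_descFactorial_mul (hk : k ≤ Fintype.card α) (hG : Trans G α k) {T : Finset α}
    (hT : T.card = k) :
    Nat.card G = (Fintype.card α).descFactorial k * Nat.card (fixer G T) := by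
  classical
  let e : Fin k ≃ T := (T.equivFinOfCardEq hT).symm
  let u : Fin k ↪ α := e.toEmbedding.trans (Function.Embedding.subtype _)
  haveI := multiply_of_trans hG
  have h1 := index_stabilizer_of_transitive (G := G) u
  rw [Nat.card_eq_fintype_card (α := Fin k ↪ α), Fintype.card_embedding_eq, Fintype.card_fin] at h1
  have h2 : stabilizer G u = fixer G T := by
    ext g
    rw [mem_stabilizer_iff, mem_fixer]
    constructor
    · intro h x hx
      obtain ⟨i, hi⟩ := e.surjective ⟨x, hx⟩
      have h3 : u i = x := congrArg Subtype.val hi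
      rw [← h3]
      exact DFunLike.congr_fun h i
    · intro h
      exact DFunLike.ext _ _ fun i => h _ (e i).2
  rw [← (stabilizer G u).card_mul_index, h1, h2, mul_comm]

/-- The stabiliser of `k` points is semiregular outside, so its order divides `n - k`; equality
makes the group `(k+1)`-transitive. -/
theorem semiregular_orbits (hk : k < Fintype.card α) (hG : Trans G α k)
    (hP1 : ∀ g : G, k + 1 ≤ (fixSet g : Finset α).card → g = 1) {T : Finset α} (hT : T.card = k) :
    Nat.card (fixer G T) ∣ Fintype.card α - k ∧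
      (Nat.card (fixer G T) = Fintype.card α - k → Trans G α (k + 1)) := by
  classical
  have hout : ∀ U : Finset α, ∀ h ∈ fixer G U, ∀ x ∉ U, h • x ∉ U := by
    intro U h hh x hx h'
    have h1 := mem_fixer.1 ((fixer G U).inv_mem hh) _ h'
    rw [inv_smul_smul] at h1
    exact hx (h1 ▸ h')
  have hfree : ∀ U : Finset α, U.card = k → ∀ h ∈ fixer G U, ∀ x ∉ U, h • x = x → h = 1 := by
    intro U hU h hh x hx hhx
    refine hP1 h ?_
    have h1 : insert x U ⊆ fixSet h := by
      intro v hv
      rw [mem_fixSet]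
      rcases Finset.mem_insert.1 hv with rfl | hv
      exacts [hhx, mem_fixer.1 hh v hv]
    have := Finset.card_le_card h1
    rw [Finset.card_insert_of_notMem hx, hU] at this
    exact this
  refine ⟨?_, fun heq => ?_⟩
  · letI : MulAction (fixer G T) {x : α // x ∉ T} :=
      { smul := fun h x => ⟨(h : G) • (x : α), hout T h h.2 x x.2⟩
        one_smul := fun x => Subtype.ext (one_smul G (x : α))
        mul_smul := fun a b x => Subtype.ext (mul_smul (a : G) b (x : α)) }
    have hstab : ∀ x : {x : α // x ∉ T}, stabilizer (fixer G T) x = ⊥ := fun x => by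
      rw [Subgroup.eq_bot_iff_forall]
      intro h hh
      exact Subtype.ext (hfree T hT h h.2 x x.2 (congrArg Subtype.val hh))
    have h1 := Nat.card_congr (MulAction.selfEquivOrbitsQuotientProd hstab)
    rw [Nat.card_prod, Nat.card_eq_fintype_card (α := {x : α // x ∉ T}), Fintype.card_subtype_compl,
      Fintype.card_coe, hT] at h1
    exact ⟨_, h1.trans (mul_comm _ _)⟩
  · intro S hS σ
    by_cases hS' : S.card ≤ k
    · exact hG S hS' σ
    obtain ⟨x, hx⟩ := Finset.card_pos.1 (show 0 < S.card by omega)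
    obtain ⟨g, hg⟩ := hG (S.erase x) (by rw [Finset.card_erase_of_mem hx]; omega) σ
    obtain ⟨U, hU⟩ : ∃ U : Finset α, U = (S.erase x).image σ := ⟨_, rfl⟩
    have hUcard : U.card = k := by
      rw [hU, Finset.card_image_of_injective _ σ.injective, Finset.card_erase_of_mem hx]; omega
    have hgx : g • x ∉ U := by
      rw [hU, Finset.mem_image]
      rintro ⟨y, hy, e⟩
      rw [← hg y hy] at e
      exact (Finset.mem_erase.1 hy).1 (MulAction.injective g e)
    have hσx : σ x ∉ U := by
      rw [hU, Finset.mem_image]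
      rintro ⟨y, hy, e⟩
      exact (Finset.mem_erase.1 hy).1 (σ.injective e)
    have hbij : Function.Bijective
        (fun h : fixer G U => (⟨(h : G) • g • x, hout U h h.2 _ hgx⟩ : {y : α // y ∉ U})) := by
      refine Function.Injective.bijective_of_nat_card_le (fun a b e => ?_) (le_of_eq ?_)
      · have e' : (a : G) • g • x = (b : G) • g • x := congrArg Subtype.val e
        have h1 := hfree U hUcard ((a : G)⁻¹ * b) ((fixer G U).mul_mem ((fixer G U).inv_mem a.2) b.2)
          (g • x) hgx (by rw [mul_smul, ← e', inv_smul_smul])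
        exact Subtype.ext (inv_mul_eq_one.1 h1)
      · rw [Nat.card_eq_fintype_card (α := {y : α // y ∉ U}), Fintype.card_subtype_compl, Fintype.card_coe,
          hUcard, ← hG.card_fixer_eq hT.le (hT.trans hUcard.symm), heq]
    obtain ⟨h, hh⟩ := hbij.2 ⟨σ x, hσx⟩
    refine ⟨h * g, fun y hy => ?_⟩
    rw [mul_smul]
    by_cases hyx : y = x
    · subst hyx
      exact congrArg Subtype.val hh
    · have hy' : y ∈ S.erase x := Finset.mem_erase.2 ⟨hyx, hy⟩
      rw [hg y hy']
      exact mem_fixer.1 h.2 _ (hU ▸ Finset.mem_image_of_mem σ hy')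

end General

theorem arith_three : ∀ m : Fin 24, ∀ r : Fin 25,
    4 ≤ (m : ℕ) ∧ 2 ≤ (r : ℕ) ∧ 24 % ((r : ℕ) * ((m : ℕ) + 1)) = 0 ∧ ((m : ℕ) + 2) % (r : ℕ) = 0 →
      (m : ℕ) = 7 ∧ (r : ℕ) = 3 := by
  decide +kernel

theorem arith_four : ∀ m : Fin 60, ∀ r : Fin 21,
    5 ≤ (m : ℕ) ∧ 2 ≤ (r : ℕ) ∧ 120 % ((r : ℕ) * ((m : ℕ) + 1)) = 0 ∧ ((m : ℕ) + 2) % (r : ℕ) = 0 ∧
      ((m : ℕ) + 2) / (r : ℕ) % 2 = 1 →
      ((m : ℕ) = 7 ∧ (r : ℕ) = 3) ∨ ((m : ℕ) = 19 ∧ (r : ℕ) = 3) ∨ ((m : ℕ) = 23 ∧ (r : ℕ) = 5) := by
  decide +kernel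

theorem choose_dvd_card {G α : Type*} [Group G] [MulAction G α] [Fintype α] [DecidableEq α] {k : ℕ}
    (hh : IsPretransitive G (Set.powersetCard α k)) (hk : k ≤ Fintype.card α) :
    (Fintype.card α).choose k ∣ Nat.card G := by
  obtain ⟨T, -, hT⟩ := Finset.exists_superset_card_eq (s := (∅ : Finset α)) (n := k) (by simp)
    (by simpa using hk)
  have h1 := index_stabilizer_of_transitive (G := G) (⟨T, hT⟩ : Set.powersetCard α k)
  rw [Set.powersetCard.card, Nat.card_eq_fintype_card] at h1
  rw [← h1]
  exact Subgroup.index_dvd_card _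

/-- A normal Sylow subgroup of a stabiliser commuting with a `p`-element is impossible. -/
theorem no_normal_sylow {G α : Type*} [Group G] [Finite G] [MulAction G α] [Fintype α] [DecidableEq α]
    {k p q m : ℕ} (hq : q.Prime) (hp : p.Prime)
    (hP1 : ∀ g : G, k + 1 ≤ (fixSet g : Finset α).card → g = 1)
    {T E : Finset α} (hET : E ⊆ T) (hT : T.card = k) (hTq : T.card < q) (hpq : p ≠ q)
    (hs : Nat.card (fixer G T) = p) (hL : Nat.card (fixer G E) = q * m) (hqm : ¬ q ∣ m)
    (huniq : ∀ d < m + 1, m % d = 0 → d % q = 1 → d = 1)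
    (hmul : ∀ j < q, j ^ p % q = 1 → j = 1) : False := by
  classical
  haveI : Fact p.Prime := ⟨hp⟩
  haveI : Fact q.Prime := ⟨hq⟩
  have hm0 : m ≠ 0 := fun h => hqm (h ▸ dvd_zero q)
  obtain ⟨L, hLdef⟩ : ∃ L : Subgroup G, L = fixer G E := ⟨_, rfl⟩
  rw [← hLdef] at hL
  obtain ⟨U⟩ : Nonempty (Sylow q L) := inferInstance
  have hUcard : Nat.card (U : Subgroup L) = q := by
    rw [U.card_eq_multiplicity, hL, Nat.factorization_mul hq.ne_zero hm0,
      Finsupp.add_apply, Nat.factorization_eq_zero_of_not_dvd hqm, hq.factorization_self, pow_one]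
  have hUn : Nat.card (Sylow q L) = 1 := by
    have h1 : Nat.card (Sylow q L) ≡ 1 [MOD q] := card_sylow_modEq_one q L
    have h3 : (U : Subgroup L).index = m := by
      have := (U : Subgroup L).card_mul_index
      rw [hUcard, hL] at this
      exact Nat.eq_of_mul_eq_mul_left hq.pos this
    have h2 : Nat.card (Sylow q L) ∣ m := h3 ▸ U.card_dvd_index
    refine huniq _ (Nat.lt_succ_of_le (Nat.le_of_dvd (Nat.pos_of_ne_zero hm0) h2))
      (Nat.mod_eq_zero_of_dvd h2) ?_
    unfold Nat.ModEq at h1
    rwa [Nat.mod_eq_of_lt hq.one_lt] at h1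
  haveI : Subsingleton (Sylow q L) := (Nat.card_eq_one_iff_unique.1 hUn).1
  have hUnorm : (U : Subgroup L).Normal := Sylow.normal_of_subsingleton U
  obtain ⟨h, hh⟩ := exists_prime_orderOf_dvd_card' (G := fixer G T) p (by rw [hs])
  rw [← Subgroup.orderOf_coe] at hh
  have hhL : (h : G) ∈ L := hLdef ▸ mem_fixer.2 fun x hx => mem_fixer.1 h.2 x (hET hx)
  obtain ⟨u, hu⟩ := exists_prime_orderOf_dvd_card' (G := (U : Subgroup L)) q (by rw [hUcard])
  rw [← Subgroup.orderOf_coe] at hu
  obtain ⟨i, hiq, hi⟩ : ∃ i < q, (u : L) ^ i = (⟨h, hhL⟩ : L) * u * (⟨h, hhL⟩ : L)⁻¹ := by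
    have hw := hUnorm.conj_mem _ u.2 (⟨h, hhL⟩ : L)
    have h1 : Subgroup.zpowers (u : L) = (U : Subgroup L) := Subgroup.eq_of_le_of_card_ge
      (Subgroup.zpowers_le.2 u.2) (by rw [Nat.card_zpowers, hu, hUcard])
    replace hw := (SetLike.ext_iff.1 h1 _).2 hw
    rw [← mem_powers_iff_mem_zpowers, Submonoid.mem_powers_iff] at hw
    obtain ⟨n, hn⟩ := hw
    refine ⟨n % q, Nat.mod_lt _ hq.pos, ?_⟩
    have h2 := pow_mod_orderOf (u : L) n
    rw [hu, hn] at h2
    exact h2
  have hiter : ∀ e : ℕ, (⟨h, hhL⟩ : L) ^ e * u * ((⟨h, hhL⟩ : L) ^ e)⁻¹ = (u : L) ^ (i ^ e) := by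
    intro e
    induction e with
    | zero => simp
    | succ e ih =>
      calc (⟨h, hhL⟩ : L) ^ (e + 1) * u * ((⟨h, hhL⟩ : L) ^ (e + 1))⁻¹
          = ⟨h, hhL⟩ * ((⟨h, hhL⟩ : L) ^ e * u * ((⟨h, hhL⟩ : L) ^ e)⁻¹) * (⟨h, hhL⟩ : L)⁻¹ := by
            rw [pow_succ']; group
        _ = (u : L) ^ (i ^ (e + 1)) := by rw [ih, ← conj_pow, ← hi, ← pow_mul, pow_succ']
  have hp1 : (⟨h, hhL⟩ : L) ^ p = 1 := by
    refine Subtype.ext ?_
    rw [SubmonoidClass.coe_pow, ← hh, pow_orderOf_eq_one]; rfl
  have hip := hiter p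
  rw [hp1, one_mul, inv_one, mul_one] at hip
  have hmod := pow_eq_pow_iff_modEq.1 (hip.symm.trans (pow_one (u : L)).symm)
  rw [hu] at hmod
  unfold Nat.ModEq at hmod
  rw [Nat.mod_eq_of_lt hq.one_lt] at hmod
  have hi1 : i = 1 := hmul i hiq hmod
  have hcomm : (h : G) * ((u : L) : G) = ((u : L) : G) * h := by
    have h1 := hiter 1
    rw [pow_one, pow_one, hi1, pow_one, mul_inv_eq_iff_eq_mul] at h1
    exact congrArg Subtype.val h1
  have hhne : (h : G) ≠ 1 := fun e => by rw [e, orderOf_one] at hh; exact hp.one_lt.ne hh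
  have hfixh : fixSet (h : G) = T := by
    refine (Finset.eq_of_subset_of_card_le (fun x hx => mem_fixSet.2 (mem_fixer.1 h.2 x hx)) ?_).symm
    by_contra hcon
    rw [hT] at hcon
    exact hhne (hP1 _ (by omega))
  -- `u` permutes fewer than `q` points
  have huT : ((u : L) : G) ∈ fixer G T := by
    have hord : orderOf ((u : L) : G) = q := by rw [Subgroup.orderOf_coe, hu]
    rw [mem_fixer]
    intro x hx
    have hpres : ∀ n : ℕ, ((u : L) : G) ^ n • x ∈ T := by
      intro n
      induction n with
      | zero => rwa [pow_zero, one_smul]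
      | succ n ih =>
        rw [pow_succ', mul_smul]
        rw [← hfixh, mem_fixSet] at ih ⊢
        rw [← mul_smul, hcomm, mul_smul, ih]
    obtain ⟨a, b, hab, heq⟩ := Fintype.exists_ne_map_eq_of_card_lt
      (fun n : Fin q => (⟨((u : L) : G) ^ (n : ℕ) • x, hpres n⟩ : T))
      (by rw [Fintype.card_coe, Fintype.card_fin]; exact hTq)
    have heq' : ((u : L) : G) ^ (a : ℕ) • x = ((u : L) : G) ^ (b : ℕ) • x := congrArg Subtype.val heq
    rw [← zpow_natCast, ← zpow_natCast, ← inv_smul_eq_iff, ← mul_smul, ← zpow_neg, ← zpow_add] at heq'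
    have hst : ((u : L) : G) ^ (-(b : ℤ) + a) ∈ stabilizer G x := heq'
    have hcop : IsCoprime (-(b : ℤ) + a) q := by
      refine ((Nat.prime_iff_prime_int.1 hq).coprime_iff_not_dvd.2 ?_).symm
      intro hd
      have h0 : -(b : ℤ) + a ≠ 0 := fun h0 => hab (Fin.ext (by omega))
      have h5 := Int.le_of_dvd (abs_pos.2 h0) ((dvd_abs _ _).2 hd)
      have ha := a.2
      have hb := b.2
      rw [le_abs] at h5
      omega
    obtain ⟨c, d, hcd⟩ := hcop
    have h6 : ((u : L) : G) ^ (1 : ℤ) ∈ stabilizer G x := by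
      rw [← hcd, zpow_add, mul_comm c, zpow_mul, mul_comm d, zpow_mul, zpow_natCast,
        orderOf_dvd_iff_pow_eq_one.1 (dvd_of_eq hord), one_zpow, mul_one]
      exact zpow_mem hst c
    rwa [zpow_one] at h6
  have hdvd := orderOf_dvd_natCard (⟨((u : L) : G), huT⟩ : fixer G T)
  rw [← Subgroup.orderOf_coe, hs] at hdvd
  change orderOf (((u : L) : G)) ∣ p at hdvd
  rw [Subgroup.orderOf_coe, hu] at hdvd
  exact hpq ((Nat.prime_dvd_prime_iff_eq hq hp).1 hdvd).symm

/-- **Livingstone–Wagner**, first form. -/
theorem trans_pred : ∀ (k : ℕ), 2 ≤ k → ∀ {α : Type u} [Fintype α] [DecidableEq α]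
    (G : Subgroup (Perm α)), 2 * k ≤ Fintype.card α →
    IsPretransitive G (Set.powersetCard α k) → Trans G α (k - 1) := by
  intro k hk
  induction k, hk using Nat.le_induction with
  | base =>
    intro α _ _ G hn hh
    classical
    intro T hT σ
    rcases T.eq_empty_or_nonempty with rfl | ⟨x, hx⟩
    · exact ⟨1, by simp⟩
    have hT1 : T = {x} := Finset.eq_singleton_iff_unique_mem.2
      ⟨hx, fun y hy => Finset.card_le_one.1 (by omega) y hy x hx⟩
    have h1 := Cfsg.Agent.S0736.result G le_rfl hh (fun q _ hq2 => by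
      have := Nat.le_of_dvd (by norm_num) hq2; omega)
    obtain ⟨g, hg⟩ := exists_image_of_homog (k := 1) h1 (T := {x}) (T' := {σ x}) (by simp) (by simp)
    refine ⟨g, fun y hy => ?_⟩
    rw [hT1, Finset.mem_singleton] at hy
    subst hy
    simpa using hg
  | succ j hj ih =>
    intro α _ _ G hn hh
    classical
    rw [Nat.add_sub_cancel]
    have hh' : IsPretransitive G (Set.powersetCard α j) := by
      have h1 := Cfsg.Agent.S0736.result G (show 2 ≤ j + 1 by omega) hh (fun q _ hq2 => by
        have := Nat.le_of_dvd (by omega) hq2; omega)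
      rwa [Nat.add_sub_cancel] at h1
    have hG : Trans G α (j - 1) := ih G (by omega) hh'
    by_contra hnt
    obtain ⟨T₀, -, hT₀⟩ := Finset.exists_superset_card_eq (s := (∅ : Finset α)) (n := j) (by simp)
      (by omega)
    obtain ⟨U₀, -, hU₀⟩ := Finset.exists_superset_card_eq (s := (∅ : Finset α)) (n := j + 1) (by simp)
      (by omega)
    have hfixeq : ∀ {i : ℕ}, IsPretransitive G (Set.powersetCard α i) → ∀ {A B : Finset α},
        A.card = i → B.card = i → Nat.card (fixer G A) = Nat.card (fixer G B) := by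
      intro i hi A B hA hB
      obtain ⟨g, hg⟩ := exists_image_of_homog hi hA hB
      rw [← hg, card_fixer_image]
    have hP : ∀ g : G, j ≤ (fixSet g : Finset α).card → g = 1 := by
      intro g hg
      obtain ⟨T, hTsub, hT⟩ := Finset.exists_subset_card_eq hg
      by_cases hl : 1 < Nat.card (fixer G T₀)
      · refine absurd (trans_of_multiply ?_ (by omega)) hnt
        have := Cfsg.Agent.S0744.result G (k := j + 1) (by omega) (by omega)
          (Nat.card (fixer G T₀)) (Nat.card (fixer G U₀)) hl
          (fun s hs => hfixeq hh' (by omega) hT₀) (fun s hs => hfixeq hh hs hU₀)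
        rwa [Nat.add_sub_cancel] at this
      · have h1 : fixer G T = ⊥ := Subgroup.eq_bot_of_card_eq _ (by
          have := Nat.card_pos (α := fixer G T)
          rw [hfixeq hh' hT hT₀] at this ⊢
          omega)
        have h2 : g ∈ fixer G T := mem_fixer.2 fun v hv => mem_fixSet.1 (hTsub hv)
        rwa [h1, Subgroup.mem_bot] at h2
    have hP' : ∀ g : G, j - 1 + 1 ≤ (fixSet g : Finset α).card → g = 1 :=
      fun g hg => hP g (by omega)
    obtain ⟨T, -, hT⟩ := Finset.exists_superset_card_eq (s := (∅ : Finset α)) (n := j - 1) (by simp)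
      (by omega)
    obtain ⟨s, hs⟩ : ∃ s, s = Nat.card (fixer G T) := ⟨_, rfl⟩
    obtain ⟨hsdvd, hseq⟩ := semiregular_orbits (by omega) hG hP' hT
    rw [← hs] at hsdvd hseq
    have hsne : s ≠ Fintype.card α - (j - 1) := fun h => hnt (by
      have := hseq h
      rwa [Nat.sub_add_cancel (by omega)] at this)
    have hspos : 0 < s := hs ▸ Nat.card_pos
    have hcard := card_eq_descFactorial_mul (by omega) hG hT
    rw [← hs] at hcard
    have heven : 4 ≤ j → ∀ g : G, g * g = 1 → j - 1 ≤ (fixSet g : Finset α).card → g = 1 := by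
      intro hj4 g hg hgf
      by_contra hg1
      have halt : ∀ Δ : Finset α, Δ.card = j → AltFull G Δ := fun Δ hΔ =>
        altFull_of_two (k := j - 1) (by omega) hG
          (fun T' hT' => two_of_involution (by omega) hG hP' hg1 hg hgf hT') (by omega)
      obtain ⟨Δ, hΔ, hfull⟩ := full_of_involution (j := j) (by omega) halt hg1 hg (by omega)
      exact hnt (trans_of_full hh' (by omega) hΔ hfull)
    have hdvd : (Fintype.card α).choose (j + 1) ∣ Nat.card G := choose_dvd_card hh (by omega)
    rcases (show j = 2 ∨ j = 3 ∨ j = 4 ∨ 5 ≤ j by omega) with rfl | rfl | rfl | hj5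
    · -- `j = 2`
      obtain ⟨heven', -⟩ := Cfsg.Agent.S0735.result G hh' (by omega)
      have hodd : Odd (Nat.card G) := by
        rw [← Nat.not_even_iff_odd]
        exact fun h => hnt (trans_of_multiply (heven' h) (by omega))
      obtain ⟨A, hAT⟩ : ∃ A : Set.powersetCard α 2, True := ⟨⟨T₀, hT₀⟩, trivial⟩
      have hst : stabilizer G A = ⊥ := by
        rw [Subgroup.eq_bot_iff_forall]
        intro g hg
        have hgA : (A : Finset α).image (fun x => g • x) = (A : Finset α) := congrArg Subtype.val hg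
        obtain ⟨a, b, hab, hAe⟩ := Finset.card_eq_two.1 A.2
        have hsq : g * g = 1 := by
          refine hP _ (le_of_eq_of_le (Finset.card_pair hab).symm (Finset.card_le_card fun x hx => ?_))
          rw [mem_fixSet, mul_smul]
          rw [hAe] at hgA
          have ha : g • a ∈ ({a, b} : Finset α) := by rw [← hgA]; simp
          have hb : g • b ∈ ({a, b} : Finset α) := by rw [← hgA]; simp
          simp only [Finset.mem_insert, Finset.mem_singleton] at ha hb hx
          rcases hx with rfl | rfl
          · rcases ha with h1 | h1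
            · rw [h1, h1]
            · rw [h1]
              rcases hb with h2 | h2
              · exact h2
              · exact absurd (MulAction.injective g (h1.trans h2.symm)) hab
          · rcases hb with h1 | h1
            · rw [h1]
              rcases ha with h2 | h2
              · exact absurd (MulAction.injective g (h2.trans h1.symm)) hab
              · exact h2
            · rw [h1, h1]
        by_contra hg1
        have h2 : orderOf g = 2 := orderOf_eq_prime (by rw [sq, hsq]) hg1
        exact hodd.not_two_dvd_nat (h2 ▸ orderOf_dvd_natCard g)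
      have h1 := (stabilizer G A).card_mul_index
      rw [hst, Subgroup.card_bot, one_mul] at h1
      have h2 := index_stabilizer_of_transitive (G := G) A
      rw [Set.powersetCard.card, Nat.card_eq_fintype_card, hst] at h2
      rw [← h1, h2] at hdvd
      have h3 := Nat.le_of_dvd (Nat.choose_pos (by omega)) hdvd
      have h4 := Nat.choose_succ_right_eq (Fintype.card α) 2
      have h5 : 0 < (Fintype.card α).choose 2 := Nat.choose_pos (by omega)
      have h6 : (Fintype.card α).choose 2 * (Fintype.card α - 2) ≤ (Fintype.card α).choose 2 * 3 := by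
        rw [← h4]; exact Nat.mul_le_mul_right 3 h3
      have := Nat.le_of_mul_le_mul_left h6 h5
      omega
    · -- `j = 3`
      obtain ⟨r, hr⟩ := hsdvd
      obtain ⟨m, hm⟩ : ∃ m, Fintype.card α = m + 4 := ⟨Fintype.card α - 4, by omega⟩
      have h1 : (Fintype.card α).descFactorial 4 ∣ 24 * Nat.card G := by
        rw [Nat.descFactorial_eq_factorial_mul_choose]
        exact Nat.mul_dvd_mul dvd_rfl hdvd
      rw [hcard, hm] at h1
      rw [hm] at hr hsne hn
      have h2 : (m + 4) * (m + 3) * ((m + 2) * (m + 1)) ∣ (m + 4) * (m + 3) * (24 * s) := by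
        have e1 : (m + 4).descFactorial 4 = (m + 4) * (m + 3) * ((m + 2) * (m + 1)) := by
          simp [Nat.descFactorial]; ring
        have e2 : 24 * ((m + 4).descFactorial (3 - 1) * s) = (m + 4) * (m + 3) * (24 * s) := by
          simp [Nat.descFactorial]; ring
        rwa [e1, e2] at h1
      have h3 := Nat.dvd_of_mul_dvd_mul_left (by positivity) h2
      have hr' : m + 2 = s * r := by omega
      rw [hr', mul_comm 24 s, mul_assoc] at h3
      have h4 := Nat.dvd_of_mul_dvd_mul_left hspos h3
      have hr2 : 2 ≤ r := by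
        rcases r with _ | _ | r
        · omega
        · exfalso; apply hsne; omega
        · omega
      have hm4 : 4 ≤ m := by omega
      have hm24 : m ≤ 23 := by
        have h5 := Nat.le_of_dvd (by norm_num) ((dvd_mul_left (m + 1) r).trans h4)
        omega
      have hr24 : r ≤ 24 := Nat.le_of_dvd (by norm_num) ((dvd_mul_right r (m + 1)).trans h4)
      obtain ⟨h7, h3'⟩ : m = 7 ∧ r = 3 := arith_three ⟨m, by omega⟩ ⟨r, by omega⟩
        ⟨hm4, hr2, Nat.mod_eq_zero_of_dvd h4, by show (m + 2) % r = 0; rw [hr']; simp⟩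
      subst h7 h3'
      have hs3 : s = 3 := by omega
      have hL := card_eq_descFactorial_mul (k := 0) (by omega) (hG.mono (Nat.zero_le _))
        (T := (∅ : Finset α)) rfl
      rw [hcard, hm, hs3] at hL
      rw [show Nat.descFactorial (7 + 4) (3 - 1) = 110 by decide, show Nat.descFactorial (7 + 4) 0 = 1 by decide] at hL
      exact no_normal_sylow (k := 2) (p := 3) (q := 11) (m := 30) (by norm_num) (by norm_num) hP'
        (Finset.empty_subset T) hT (by omega) (by norm_num) (by rw [← hs, hs3]) (by omega)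
        (by norm_num) (by decide +kernel) (by decide +kernel)
    · -- `j = 4`
      obtain ⟨r, hr⟩ := hsdvd
      obtain ⟨m, hm⟩ : ∃ m, Fintype.card α = m + 5 := ⟨Fintype.card α - 5, by omega⟩
      have h1 : (Fintype.card α).descFactorial 5 ∣ 120 * Nat.card G := by
        rw [Nat.descFactorial_eq_factorial_mul_choose]
        exact Nat.mul_dvd_mul dvd_rfl hdvd
      rw [hcard, hm] at h1
      rw [hm] at hr hsne hn
      have h2 : (m + 5) * (m + 4) * (m + 3) * ((m + 2) * (m + 1)) ∣
          (m + 5) * (m + 4) * (m + 3) * (120 * s) := by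
        have e1 : (m + 5).descFactorial 5 = (m + 5) * (m + 4) * (m + 3) * ((m + 2) * (m + 1)) := by
          simp [Nat.descFactorial]; ring
        have e2 : 120 * ((m + 5).descFactorial (4 - 1) * s) = (m + 5) * (m + 4) * (m + 3) * (120 * s) := by
          simp [Nat.descFactorial]; ring
        rwa [e1, e2] at h1
      have h3 := Nat.dvd_of_mul_dvd_mul_left (by positivity) h2
      have hr' : m + 2 = s * r := by omega
      rw [hr', mul_comm 120 s, mul_assoc] at h3
      have h4 := Nat.dvd_of_mul_dvd_mul_left hspos h3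
      have hr2 : 2 ≤ r := by
        rcases r with _ | _ | r
        · omega
        · exfalso; apply hsne; omega
        · omega
      have hm5 : 5 ≤ m := by omega
      have hm120 : m ≤ 59 := by
        have h5 := Nat.le_of_dvd (by norm_num) h4
        nlinarith
      have hr120 : r ≤ 20 := by
        have h5 := Nat.le_of_dvd (by norm_num) h4
        nlinarith
      have hsodd : s % 2 = 1 := by
        by_contra hse
        haveI : Fact (Nat.Prime 2) := ⟨Nat.prime_two⟩
        obtain ⟨x, hx⟩ := exists_prime_orderOf_dvd_card' (G := fixer G T) 2 (by rw [← hs]; omega)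
        rw [← Subgroup.orderOf_coe] at hx
        have hx2 : (x : G) * x = 1 := by
          have := pow_orderOf_eq_one (x : G); rwa [hx, sq] at this
        have h7 := heven le_rfl _ hx2 (hT ▸ Finset.card_le_card fun v hv => mem_fixSet.2 (mem_fixer.1 x.2 v hv))
        rw [h7, orderOf_one] at hx
        omega
      obtain ⟨a, ha⟩ := Finset.card_pos.1 (show 0 < T.card by omega)
      have ha' : (T.erase a).card = 2 := by rw [Finset.card_erase_of_mem ha, hT]
      have h4' : ((m = 7 ∧ r = 3) ∨ (m = 19 ∧ r = 3) ∨ (m = 23 ∧ r = 5)) :=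
        arith_four ⟨m, by omega⟩ ⟨r, by omega⟩ ⟨hm5, hr2, Nat.mod_eq_zero_of_dvd h4,
          by show (m + 2) % r = 0; rw [hr']; simp,
          by show (m + 2) / r % 2 = 1; rw [hr', Nat.mul_div_cancel _ (by omega)]; exact hsodd⟩
      have hL2 := card_eq_descFactorial_mul (k := 2) (by omega) (hG.mono (by norm_num)) ha'
      have hL1 := card_eq_descFactorial_mul (k := 1) (by omega) (hG.mono (by norm_num))
        (T := {a}) (Finset.card_singleton a)
      rcases h4' with ⟨rfl, rfl⟩ | ⟨rfl, rfl⟩ | ⟨rfl, rfl⟩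
      · have hs3 : s = 3 := by omega
        rw [hcard, hm, hs3] at hL1
        rw [show Nat.descFactorial (7 + 5) (4 - 1) = 1320 by decide, show Nat.descFactorial (7 + 5) 1 = 12 by decide] at hL1
        exact no_normal_sylow (k := 3) (p := 3) (q := 11) (m := 30) (by norm_num) (by norm_num) hP'
          (Finset.singleton_subset_iff.2 ha) hT (by omega) (by norm_num) (by rw [← hs, hs3]) (by omega)
          (by norm_num) (by decide +kernel) (by decide +kernel)
      · have hs7 : s = 7 := by omega
        rw [hcard, hm, hs7] at hL2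
        rw [show Nat.descFactorial (19 + 5) (4 - 1) = 12144 by decide, show Nat.descFactorial (19 + 5) 2 = 552 by decide] at hL2
        exact no_normal_sylow (k := 3) (p := 7) (q := 11) (m := 14) (by norm_num) (by norm_num) hP'
          (Finset.erase_subset a T) hT (by omega) (by norm_num) (by rw [← hs, hs7]) (by omega)
          (by norm_num) (by decide +kernel) (by decide +kernel)
      · have hs5 : s = 5 := by omega
        rw [hcard, hm, hs5] at hL2
        rw [show Nat.descFactorial (23 + 5) (4 - 1) = 19656 by decide, show Nat.descFactorial (23 + 5) 2 = 756 by decide] at hL2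
        exact no_normal_sylow (k := 3) (p := 5) (q := 13) (m := 10) (by norm_num) (by norm_num) hP'
          (Finset.erase_subset a T) hT (by omega) (by norm_num) (by rw [← hs, hs5]) (by omega)
          (by norm_num) (by decide +kernel) (by decide +kernel)
    · have h1 := card_le_of_odd_stabilizer (k := j - 1) (by omega) (by omega) hG hP' (heven (by omega))
      omega

end LW
end H59
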