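import Cfsg.Agent.H59.LW.Basic

/-!
Highly transitive groups with no involution fixing `k` points: pairs of cycles of an involution
are connected inside its centraliser, which bounds the degree.
-/

set_option autoImplicit false

namespace H59
namespace LW

open Equiv MulAction

variable {G α : Type*} [Group G] [Finite G] [MulAction G α] [FaithfulSMul G α] [Fintype α]
  [DecidableEq α] {k : ℕ}

omit [FaithfulSMul G α] in
/-- A 2-element fixing `k` points is trivial when no involution does. -/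
theorem eq_one_of_two_power (hP2 : ∀ g : G, g * g = 1 → k ≤ (fixSet g : Finset α).card → g = 1)
    {g : G} (hg : ∃ a : ℕ, g ^ 2 ^ a = 1) {T : Finset α} (hT : k ≤ T.card)
    (hfix : ∀ x ∈ T, g • x = x) : g = 1 := by
  obtain ⟨a, ha⟩ := hg
  induction a generalizing g with
  | zero => simpa using ha
  | succ a ih =>
    have h2 : g * g = 1 := ih (fun x hx => by rw [mul_smul, hfix x hx, hfix x hx])
      (by rw [← sq, ← pow_mul, ← pow_succ', ha])
    exact hP2 g h2 (hT.trans (Finset.card_le_card fun x hx => mem_fixSet.2 (hfix x hx)))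

omit [FaithfulSMul G α] in
/-- An involution fixing at least `k - 2` points. -/
theorem exists_fixing_involution (hk : 2 ≤ k) (hkn : k ≤ Fintype.card α) (hG : Trans G α k) :
    ∃ z : G, z ≠ 1 ∧ z * z = 1 ∧ k - 2 ≤ (fixSet z : Finset α).card := by
  obtain ⟨T, -, hT⟩ := Finset.exists_superset_card_eq (s := (∅ : Finset α)) (n := k) (by simp)
    (by simpa using hkn)
  obtain ⟨a, ha, b, hb, hab⟩ := Finset.one_lt_card.1 (show 1 < T.card by omega)
  obtain ⟨g, hg⟩ := hG T hT.le (swap a b)
  have hgg : ∀ x ∈ T, g • g • x = x := by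
    intro x hx
    have h1 : swap a b x ∈ T := by
      rw [swap_apply_def]; split_ifs <;> assumption
    rw [hg x hx, hg _ h1, swap_apply_self]
  have hsub : ((T.erase a).erase b).card = k - 2 := by
    rw [Finset.card_erase_of_mem (Finset.mem_erase.2 ⟨hab.symm, hb⟩), Finset.card_erase_of_mem ha, hT]
    omega
  rcases exists_involution g (α := α) with ⟨h, h1, h2, h3⟩ | ⟨h, h2, h3⟩
  · exact ⟨h, h1, h2, hsub ▸ Finset.card_le_card fun x hx => mem_fixSet.2 (h3 x (hgg x
      (Finset.mem_of_mem_erase (Finset.mem_of_mem_erase hx))))⟩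
  · refine ⟨h, fun e => hab ?_, h2, hsub ▸ Finset.card_le_card fun x hx => ?_⟩
    · have h4 := h3 a (hgg a ha)
      rw [e, one_smul, hg a ha, swap_apply_left] at h4
      exact h4
    · simp only [Finset.mem_erase] at hx
      rw [mem_fixSet, h3 x (hgg x hx.2.2), hg x hx.2.2, swap_apply_of_ne_of_ne hx.2.1 hx.1]

/-- Two cycles of an involution `z` are connected by an element of small order that centralises `z`
and its fixed points; a further involution fixes exactly one of the cycles outside. -/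
theorem pair_lemma (hk : 4 ≤ k) (hG : Trans G α k)
    (hP2 : ∀ g : G, g * g = 1 → k ≤ (fixSet g : Finset α).card → g = 1)
    {z : G} (hz1 : z ≠ 1) (hz : z * z = 1) (hf : k - 2 ≤ (fixSet z : Finset α).card)
    {x y : α} (hx : z • x ≠ x) (hy : z • y ≠ y) (hyx : y ≠ x) (hyzx : y ≠ z • x) :
    ∃ s τ : G, s * z = z * s ∧ (∀ w ∈ (fixSet z : Finset α), s • w = w) ∧ s • x = y ∧
      (s * s = 1 ∨ s * s = z) ∧ τ * τ = 1 ∧ τ * z = z * τ ∧ τ • x = x ∧
      (∀ w : α, z • w ≠ w → τ • w = w → w = x ∨ w = z • x) := by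
  classical
  haveI : Fact (Nat.Prime 2) := ⟨Nat.prime_two⟩
  have hzz : ∀ w : α, z • z • w = w := fun w => by rw [← mul_smul, hz, one_smul]
  have hfk : (fixSet z : Finset α).card < k := by
    by_contra h
    exact hz1 (hP2 z hz (not_lt.1 h))
  obtain ⟨E, hEsub, hEcard⟩ := Finset.exists_subset_card_eq (s := (fixSet z : Finset α)) (n := k - 4)
    (by omega)
  have hzx : z • z • x ≠ z • x := fun h => hx (MulAction.injective z h)
  have hzy : z • z • y ≠ z • y := fun h => hy (MulAction.injective z h)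
  have hxy' : z • y ≠ x := fun h => hyzx (by rw [← h, hzz])
  have hxy'' : z • y ≠ z • x := fun h => hyx (MulAction.injective z h)
  obtain ⟨Q, hQ⟩ : ∃ Q : Finset α, Q = {x, z • x, y, z • y} := ⟨_, rfl⟩
  have hQmem : ∀ w, w ∈ Q ↔ w = x ∨ w = z • x ∨ w = y ∨ w = z • y := fun w => by rw [hQ]; simp
  have hQcard : Q.card = 4 := by
    rw [hQ, Finset.card_insert_of_notMem, Finset.card_insert_of_notMem, Finset.card_pair hy.symm]
    · simp [hyzx.symm, hxy''.symm]
    · simp [hx.symm, hyx.symm, hxy'.symm]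
  have hQfix : ∀ w ∈ Q, z • w ≠ w := by
    intro w hw
    rcases (hQmem w).1 hw with rfl | rfl | rfl | rfl
    exacts [hx, hzx, hy, hzy]
  have hEQ : Disjoint E Q := Finset.disjoint_left.2 fun w hwE hwQ =>
    hQfix w hwQ (mem_fixSet.1 (hEsub hwE))
  obtain ⟨T, hT⟩ : ∃ T : Finset α, T = E ∪ Q := ⟨_, rfl⟩
  have hTcard : T.card = k := by
    rw [hT, Finset.card_union_of_disjoint hEQ, hEcard, hQcard]; omega
  -- the set-wise stabiliser, compatible with `z`
  let M : Subgroup G :=
    { carrier := {g | (∀ e ∈ E, g • e = e) ∧ (∀ q ∈ Q, g • q ∈ Q) ∧ ∀ q ∈ Q, g • z • q = z • g • q}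
      one_mem' := ⟨fun e _ => one_smul _ e, fun q hq => by rwa [one_smul],
        fun q _ => by rw [one_smul, one_smul]⟩
      mul_mem' := by
        rintro a b ⟨a1, a2, a3⟩ ⟨b1, b2, b3⟩
        refine ⟨fun e he => by rw [mul_smul, b1 e he, a1 e he],
          fun q hq => by rw [mul_smul]; exact a2 _ (b2 q hq),
          fun q hq => by rw [mul_smul, b3 q hq, a3 _ (b2 q hq), mul_smul]⟩
      inv_mem' := by
        rintro a ⟨a1, a2, a3⟩
        have himg : Q.image (fun q => a • q) = Q := Finset.eq_of_subset_of_card_le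
          (fun w hw => by obtain ⟨q, hq, rfl⟩ := Finset.mem_image.1 hw; exact a2 q hq)
          (by rw [Finset.card_image_of_injective _ (MulAction.injective a)])
        refine ⟨fun e he => by rw [inv_smul_eq_iff, a1 e he], fun q hq => ?_, fun q hq => ?_⟩
        · rw [← himg] at hq
          obtain ⟨p, hp, rfl⟩ := Finset.mem_image.1 hq
          rwa [inv_smul_smul]
        · rw [← himg] at hq
          obtain ⟨p, hp, rfl⟩ := Finset.mem_image.1 hq
          rw [inv_smul_smul, ← a3 p hp, inv_smul_smul] }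
  have hzQ : ∀ q ∈ Q, z • q ∈ Q := by
    intro q hq
    rcases (hQmem q).1 hq with rfl | rfl | rfl | rfl <;> simp [hQmem, hzz]
  have hzM : z ∈ M := ⟨fun e he => mem_fixSet.1 (hEsub he), hzQ, fun q _ => rfl⟩
  have hzp : IsPGroup 2 (Subgroup.zpowers (⟨z, hzM⟩ : M)) := IsPGroup.of_card (n := 1) (by
    rw [Nat.card_zpowers, pow_one]
    exact orderOf_eq_prime (Subtype.ext (by simpa [sq] using hz))
      (fun h => hz1 (congrArg Subtype.val h)))
  obtain ⟨S, hS⟩ := hzp.exists_le_sylow
  have hzS : (⟨z, hzM⟩ : M) ∈ (S : Subgroup M) := hS (Subgroup.mem_zpowers _)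
  -- two elements of `S` agreeing on `T` are equal
  have heq : ∀ a b : M, a ∈ (S : Subgroup M) → b ∈ (S : Subgroup M) →
      (∀ w ∈ T, (a : G) • w = (b : G) • w) → (a : G) = b := by
    intro a b ha hb hab
    obtain ⟨i, hi⟩ := S.2 ⟨b⁻¹ * a, Subgroup.mul_mem _ (Subgroup.inv_mem _ hb) ha⟩
    have hi' : ((b : G)⁻¹ * a) ^ 2 ^ i = 1 := by
      have := congrArg (fun u : (S : Subgroup M) => ((u : M) : G)) hi
      simpa using this
    have := eq_one_of_two_power hP2 ⟨i, hi'⟩ hTcard.ge (fun w hw => by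
      rw [mul_smul, hab w hw, inv_smul_smul])
    exact (inv_mul_eq_one.1 this).symm
  -- every permutation of the four points is induced from `S`
  have hlift : ∀ g : M, ∃ a : M, a ∈ (S : Subgroup M) ∧ ∀ q ∈ Q, (a : G) • q = (g : G) • q := by
    letI : MulAction M {q // q ∈ Q} :=
      { smul := fun g q => ⟨(g : G) • (q : α), g.2.2.1 q q.2⟩
        one_smul := fun q => Subtype.ext (one_smul G (q : α))
        mul_smul := fun g h q => Subtype.ext (mul_smul (g : G) h (q : α)) }
    let φ := MulAction.toPermHom M {q // q ∈ Q}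
    have hrange : IsPGroup 2 φ.range := by
      rintro ⟨-, g, rfl⟩
      refine ⟨2, Subtype.ext ?_⟩
      obtain ⟨g, hg1, hg2, hg3⟩ := g
      have hpair : ∀ a b : α, a ∈ Q → b ∈ Q → b ≠ a → b ≠ z • a →
          g • g • a = a ∨ g • g • a = z • a := by
        intro a b ha hb hba hbza
        have hcases : ∀ w ∈ Q, w = a ∨ w = z • a ∨ w = b ∨ w = z • b := by
          intro w hw
          by_contra hcon
          push Not at hcon
          have h5 : ({w, a, z • a, b, z • b} : Finset α) ⊆ Q := by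
            intro v hv
            simp only [Finset.mem_insert, Finset.mem_singleton] at hv
            rcases hv with rfl | rfl | rfl | rfl | rfl
            exacts [hw, ha, hzQ _ ha, hb, hzQ _ hb]
          have h6 := Finset.card_le_card h5
          have ha2 : a ≠ z • b := fun h => hbza (by rw [h, hzz])
          have ha3 : z • a ≠ z • b := fun h => hba.symm (MulAction.injective z h)
          rw [hQcard, Finset.card_insert_of_notMem, Finset.card_insert_of_notMem,
            Finset.card_insert_of_notMem, Finset.card_pair (hQfix b hb).symm] at h6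
          · omega
          · simp [hbza.symm, ha3]
          · simp [(hQfix a ha).symm, hba.symm, ha2]
          · simp [hcon]
        rcases hcases _ (hg2 a ha) with h | h | h | h
        · exact Or.inl (by rw [h, h])
        · left; rw [h, hg3 a ha, h, hzz]
        · rcases hcases _ (hg2 b hb) with h' | h' | h' | h'
          · left; rw [h, h']
          · right; rw [h, h']
          · exact absurd (MulAction.injective g (h'.trans h.symm)) hba
          · refine absurd (MulAction.injective g (show g • b = g • (z • a) from ?_)) hbza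
            rw [h', hg3 a ha, h]
        · rcases hcases _ (hg2 b hb) with h' | h' | h' | h'
          · right; rw [h, hg3 b hb, h']
          · left; rw [h, hg3 b hb, h', hzz]
          · refine absurd (MulAction.injective g (show g • b = g • (z • a) from ?_)) hbza
            rw [h', hg3 a ha, h, hzz]
          · exact absurd (MulAction.injective g (h'.trans h.symm)) hba
      have hg4 : ∀ q ∈ Q, g • g • g • g • q = q := by
        intro q hq
        obtain ⟨b, hb, hb1, hb2⟩ : ∃ b ∈ Q, b ≠ q ∧ b ≠ z • q := by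
          by_contra hcon
          push Not at hcon
          have h5 : Q ⊆ {q, z • q} := fun w hw => by
            by_cases h : w = q
            · simp [h]
            · simp [hcon w hw h]
          have := (Finset.card_le_card h5).trans Finset.card_le_two
          omega
        rcases hpair q b hq hb hb1 hb2 with h | h
        · rw [h, h]
        · rw [h, hg3 q hq, hg3 _ (hg2 q hq), h, hzz]
      ext ⟨q, hq⟩
      simp only [SubmonoidClass.coe_pow, ← map_pow, MulAction.toPermHom_apply,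
        MulAction.toPerm_apply, OneMemClass.coe_one, Equiv.Perm.one_apply]
      show (g ^ 2 ^ 2) • q = q
      simp only [show (2 : ℕ) ^ 2 = 1 + 1 + 1 + 1 by norm_num, pow_add, pow_one, mul_smul]
      exact hg4 q hq
    have hsurj : Function.Surjective φ.rangeRestrict := φ.rangeRestrict_surjective
    have htop : ((S.mapSurjective hsurj : Sylow 2 φ.range) : Subgroup φ.range) = ⊤ :=
      ((S.mapSurjective hsurj).is_maximal' (hrange.to_subgroup ⊤) le_top).symm
    intro g
    have hmem : φ.rangeRestrict g ∈ (S : Subgroup M).map φ.rangeRestrict := by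
      rw [← Sylow.coe_mapSurjective hsurj S, htop]; exact Subgroup.mem_top _
    obtain ⟨a, ha, hag⟩ := hmem
    refine ⟨a, ha, fun q hq => ?_⟩
    have h1 := congrArg (fun e : φ.range => (e : Perm {q // q ∈ Q}) ⟨q, hq⟩) hag
    exact congrArg Subtype.val h1
  have hSz : ∀ a : M, a ∈ (S : Subgroup M) → (a : G) * z = z * a := by
    intro a ha
    refine heq (a * ⟨z, hzM⟩) (⟨z, hzM⟩ * a) (Subgroup.mul_mem _ ha hzS) (Subgroup.mul_mem _ hzS ha)
      fun w hw => ?_
    simp only [Subgroup.coe_mul, mul_smul]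
    rw [hT, Finset.mem_union] at hw
    rcases hw with hw | hw
    · rw [mem_fixSet.1 (hEsub hw), a.2.1 w hw, mem_fixSet.1 (hEsub hw)]
    · exact a.2.2.2 w hw
  -- the two permutations
  have hmk : ∀ σ : Perm α, (∀ e ∈ E, σ e = e) → (∀ q ∈ Q, σ q ∈ Q) → (∀ q ∈ Q, σ (z • q) = z • σ q) →
      ∃ a : M, a ∈ (S : Subgroup M) ∧ (∀ e ∈ E, (a : G) • e = e) ∧ ∀ q ∈ Q, (a : G) • q = σ q := by
    intro σ h1 h2 h3
    obtain ⟨g, hg⟩ := hG T hTcard.le σ
    have hgE : ∀ e ∈ E, g • e = e := fun e he => by rw [hg e (hT ▸ Finset.mem_union_left _ he), h1 e he]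
    have hgQ : ∀ q ∈ Q, g • q = σ q := fun q hq => hg q (hT ▸ Finset.mem_union_right _ hq)
    have hgM : g ∈ M := ⟨hgE, fun q hq => hgQ q hq ▸ h2 q hq, fun q hq => by
      rw [hgQ q hq, hgQ _ (hzQ q hq), h3 q hq]⟩
    obtain ⟨a, ha, hag⟩ := hlift ⟨g, hgM⟩
    exact ⟨a, ha, a.2.1, fun q hq => (hag q hq).trans (hgQ q hq)⟩
  have hnE : ∀ q ∈ Q, q ∉ E := fun q hq h => Finset.disjoint_left.1 hEQ h hq
  have hxQ : x ∈ Q := by simp [hQmem]
  have hzxQ : z • x ∈ Q := by simp [hQmem]
  have hyQ : y ∈ Q := by simp [hQmem]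
  have hzyQ : z • y ∈ Q := by simp [hQmem]
  have hneE : ∀ q ∈ Q, ∀ e ∈ E, e ≠ q := fun q hq e he h => hnE q hq (h ▸ he)
  obtain ⟨τ, hτS, hτE, hτQ⟩ := hmk (swap y (z • y))
    (fun e he => swap_apply_of_ne_of_ne (hneE _ hyQ e he) (hneE _ hzyQ e he))
    (fun q hq => by rw [swap_apply_def]; split_ifs <;> first | exact hzyQ | exact hyQ | exact hq)
    (fun q hq => by
      rcases (hQmem q).1 hq with rfl | rfl | rfl | rfl <;>
        simp [swap_apply_left, swap_apply_right, hzz, swap_apply_of_ne_of_ne, hyx.symm, hxy'.symm,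
          hyzx.symm, hxy''.symm])
  obtain ⟨d, hdS, hdE, hdQ⟩ := hmk (swap x y * swap (z • x) (z • y))
    (fun e he => by
      rw [Perm.mul_apply, swap_apply_of_ne_of_ne (hneE _ hzxQ e he) (hneE _ hzyQ e he),
        swap_apply_of_ne_of_ne (hneE _ hxQ e he) (hneE _ hyQ e he)])
    (fun q hq => by
      rcases (hQmem q).1 hq with rfl | rfl | rfl | rfl <;>
        simp [hQmem, Perm.mul_apply, swap_apply_left, swap_apply_right, swap_apply_of_ne_of_ne,
          hx, hx.symm, hy, hy.symm, hyx, hyx.symm, hyzx, hyzx.symm, hxy', hxy'.symm, hxy'', hxy''.symm])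
    (fun q hq => by
      rcases (hQmem q).1 hq with rfl | rfl | rfl | rfl <;>
        simp [Perm.mul_apply, swap_apply_left, swap_apply_right, swap_apply_of_ne_of_ne, hzz,
          hx, hx.symm, hy, hy.symm, hyx, hyx.symm, hyzx, hyzx.symm, hxy', hxy'.symm, hxy'', hxy''.symm])
  have hτx : (τ : G) • x = x := by rw [hτQ x hxQ, swap_apply_of_ne_of_ne hyx.symm hxy'.symm]
  have hτzx : (τ : G) • (z • x) = z • x := by
    rw [hτQ _ hzxQ, swap_apply_of_ne_of_ne hyzx.symm hxy''.symm]
  have hτy : (τ : G) • y = z • y := by rw [hτQ y hyQ, swap_apply_left]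
  have hτzy : (τ : G) • (z • y) = y := by rw [hτQ _ hzyQ, swap_apply_right]
  have hdx : (d : G) • x = y := by
    rw [hdQ x hxQ, Perm.mul_apply, swap_apply_of_ne_of_ne hx.symm hxy'.symm, swap_apply_left]
  have hdy : (d : G) • y = x := by
    rw [hdQ y hyQ, Perm.mul_apply, swap_apply_of_ne_of_ne hyzx hy.symm, swap_apply_right]
  have hdz : ∀ w : α, (d : G) • z • w = z • (d : G) • w := fun w => by
    rw [← mul_smul, hSz d hdS, mul_smul]
  have hsqT : ∀ a : M, a ∈ (S : Subgroup M) → (∀ e ∈ E, (a : G) • e = e) →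
      (∀ q ∈ Q, (a : G) • (a : G) • q = q) → (a : G) * a = 1 := by
    intro a ha haE h
    refine heq (a * a) 1 (Subgroup.mul_mem _ ha ha) (Subgroup.one_mem _) fun w hw => ?_
    simp only [Subgroup.coe_mul, OneMemClass.coe_one, one_smul, mul_smul]
    rw [hT, Finset.mem_union] at hw
    rcases hw with hw | hw
    · rw [haE w hw, haE w hw]
    · exact h w hw
  have hd2 : (d : G) * d = 1 := hsqT d hdS hdE fun q hq => by
    rcases (hQmem q).1 hq with rfl | rfl | rfl | rfl <;> simp only [hdz, hdx, hdy]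
  have hτ2 : (τ : G) * τ = 1 := hsqT τ hτS hτE fun q hq => by
    rcases (hQmem q).1 hq with rfl | rfl | rfl | rfl <;> simp only [hτx, hτzx, hτy, hτzy]
  have hdτ : (d : G) * τ * (d * τ) = z := by
    refine heq (d * τ * (d * τ)) ⟨z, hzM⟩
      (Subgroup.mul_mem _ (Subgroup.mul_mem _ hdS hτS) (Subgroup.mul_mem _ hdS hτS)) hzS fun w hw => ?_
    simp only [Subgroup.coe_mul, mul_smul]
    rw [hT, Finset.mem_union] at hw
    rcases hw with hw | hw
    · rw [hτE w hw, hdE w hw, hτE w hw, hdE w hw, mem_fixSet.1 (hEsub hw)]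
    · rcases (hQmem w).1 hw with rfl | rfl | rfl | rfl <;>
        simp only [hτx, hτzx, hτy, hτzy, hdx, hdy, hdz, hzz]
  have hτfix : ∀ w : α, z • w ≠ w → (τ : G) • w = w → w = x ∨ w = z • x := by
    intro w hw hτw
    by_contra hcon
    push Not at hcon
    have hτzw : (τ : G) • (z • w) = z • w := by rw [← mul_smul, hSz τ hτS, mul_smul, hτw]
    have hsub : E ∪ {x, z • x, w, z • w} ⊆ fixSet (τ : G) := by
      intro v hv
      rw [mem_fixSet]
      rcases Finset.mem_union.1 hv with h | h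
      · exact hτE v h
      · simp only [Finset.mem_insert, Finset.mem_singleton] at h
        rcases h with rfl | rfl | rfl | rfl
        exacts [hτx, hτzx, hτw, hτzw]
    have hwx : z • w ≠ x := fun h => hcon.2 (by rw [← h, hzz])
    have hwzx : z • w ≠ z • x := fun h => hcon.1 (MulAction.injective z h)
    have hc4 : ({x, z • x, w, z • w} : Finset α).card = 4 := by
      rw [Finset.card_insert_of_notMem, Finset.card_insert_of_notMem, Finset.card_pair hw.symm]
      · simp [hcon.2.symm, hwzx.symm]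
      · simp [hx.symm, hcon.1.symm, hwx.symm]
    have hdis : Disjoint E ({x, z • x, w, z • w} : Finset α) := by
      refine Finset.disjoint_left.2 fun v hvE hv => ?_
      have hfixv := mem_fixSet.1 (hEsub hvE)
      simp only [Finset.mem_insert, Finset.mem_singleton] at hv
      rcases hv with rfl | rfl | rfl | rfl
      exacts [hx hfixv, hzx hfixv, hw hfixv, hw (MulAction.injective z hfixv)]
    have h6 := Finset.card_le_card hsub
    rw [Finset.card_union_of_disjoint hdis, hEcard, hc4] at h6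
    have hτ1 := hP2 (τ : G) hτ2 (by omega)
    rw [hτ1, one_smul] at hτy
    exact hy hτy.symm
  obtain ⟨R, hR⟩ : ∃ R : Finset α, R = fixSet z \ E := ⟨_, rfl⟩
  have hRcard : R.card ≤ 3 := by
    rw [hR, Finset.card_sdiff_of_subset hEsub, hEcard]; omega
  have hRpres : ∀ a : M, a ∈ (S : Subgroup M) → ∀ w ∈ R, (a : G) • w ∈ R := by
    intro a ha w hw
    rw [hR, Finset.mem_sdiff, mem_fixSet] at hw ⊢
    refine ⟨by rw [← mul_smul, ← hSz a ha, mul_smul, hw.1], fun h => hw.2 ?_⟩
    have h1 := a.2.1 _ h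
    rwa [← MulAction.injective (a : G) h1.symm] at h
  have hΦ : ∀ g : G, (∀ e ∈ E, g • e = e) → (∀ w ∈ R, g • w = w) →
      ∀ w ∈ (fixSet z : Finset α), g • w = w := by
    intro g h1 h2 w hw
    by_cases h : w ∈ E
    · exact h1 w h
    · exact h2 w (hR ▸ Finset.mem_sdiff.2 ⟨hw, h⟩)
  by_cases hdR : ∀ w ∈ R, (d : G) • w = w
  · exact ⟨d, τ, hSz d hdS, hΦ d hdE hdR, hdx, Or.inl hd2, hτ2, hSz τ hτS, hτx, hτfix⟩
  push Not at hdR
  obtain ⟨a, haR, haa⟩ := hdR
  obtain ⟨b, hb⟩ : ∃ b, b = (d : G) • a := ⟨_, rfl⟩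
  have hbR : b ∈ R := hb ▸ hRpres d hdS a haR
  have hdb : (d : G) • b = a := by rw [hb, ← mul_smul, hd2, one_smul]
  have hcomm : ∀ w ∈ R, (τ : G) • (d : G) • w = (d : G) • (τ : G) • w := by
    intro w hw
    have h1 : (d : G) • (τ : G) • (d : G) • (τ : G) • (τ : G) • (d : G) • w = z • (τ : G) • (d : G) • w := by
      rw [← mul_smul, ← mul_smul, ← mul_smul, ← hdτ, mul_assoc (d : G) τ (d * τ)]
      simp only [mul_smul]
    rw [← mul_smul (τ : G) τ, hτ2, one_smul, ← mul_smul (d : G) d, hd2, one_smul] at h1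
    have h3 : (τ : G) • (d : G) • w ∈ R := hRpres τ hτS _ (hRpres d hdS w hw)
    rw [hR, Finset.mem_sdiff, mem_fixSet] at h3
    rw [h3.1] at h1
    exact h1.symm
  have hothers : ∀ c ∈ R, c ≠ a → c ≠ b → (d : G) • c = c := by
    intro c hc hca hcb
    by_contra hne
    have hd' : (d : G) • c ∈ R := hRpres d hdS c hc
    have h4 : ({a, b, c, (d : G) • c} : Finset α) ⊆ R := by
      intro v hv
      simp only [Finset.mem_insert, Finset.mem_singleton] at hv
      rcases hv with rfl | rfl | rfl | rfl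
      exacts [haR, hbR, hc, hd']
    have h5 := Finset.card_le_card h4
    have hdca : (d : G) • c ≠ a := fun h => hcb (MulAction.injective (d : G) (h.trans hdb.symm))
    have hdcb : (d : G) • c ≠ b := fun h => hca (MulAction.injective (d : G) (h.trans hb))
    rw [Finset.card_insert_of_notMem, Finset.card_insert_of_notMem, Finset.card_pair (Ne.symm hne)] at h5
    · omega
    · simp [hcb.symm, hdcb.symm]
    · have hab : a ≠ b := fun h => haa (hb ▸ h.symm)
      simp [hab, hca.symm, hdca.symm]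
  have hτothers : ∀ c ∈ R, c ≠ a → c ≠ b → (τ : G) • c = c := by
    intro c hc hca hcb
    have h1 := hcomm c hc
    rw [hothers c hc hca hcb] at h1
    have hτc := hRpres τ hτS c hc
    by_contra hne
    by_cases h2 : (τ : G) • c = a
    · rw [h2] at h1; exact haa h1.symm
    by_cases h3 : (τ : G) • c = b
    · rw [h3, hdb] at h1; exact haa (hb.symm.trans h1)
    have h4 : ({a, b, c, (τ : G) • c} : Finset α) ⊆ R := by
      intro v hv
      simp only [Finset.mem_insert, Finset.mem_singleton] at hv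
      rcases hv with rfl | rfl | rfl | rfl
      exacts [haR, hbR, hc, hτc]
    have h5 := Finset.card_le_card h4
    rw [Finset.card_insert_of_notMem, Finset.card_insert_of_notMem, Finset.card_pair (Ne.symm hne)] at h5
    · omega
    · simp [hcb.symm, Ne.symm h3]
    · have hab : a ≠ b := fun h => haa (hb ▸ h.symm)
      simp [hab, hca.symm, Ne.symm h2]
  have hτa : (τ : G) • a = b := by
    have hτR : ∃ c ∈ R, (τ : G) • c ≠ c := by
      by_contra hcon
      push Not at hcon
      have hsub : (fixSet z : Finset α) ∪ {x, z • x} ⊆ fixSet (τ : G) := by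
        intro v hv
        rw [mem_fixSet]
        rcases Finset.mem_union.1 hv with h | h
        · exact hΦ (τ : G) hτE hcon v h
        · simp only [Finset.mem_insert, Finset.mem_singleton] at h
          rcases h with rfl | rfl
          exacts [hτx, hτzx]
      have hdis : Disjoint (fixSet z : Finset α) {x, z • x} := by
        refine Finset.disjoint_left.2 fun v hv h => ?_
        rw [mem_fixSet] at hv
        simp only [Finset.mem_insert, Finset.mem_singleton] at h
        rcases h with rfl | rfl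
        exacts [hx hv, hzx hv]
      have h6 := Finset.card_le_card hsub
      rw [Finset.card_union_of_disjoint hdis, Finset.card_pair hx.symm] at h6
      have hτ1 := hP2 (τ : G) hτ2 (by omega)
      rw [hτ1, one_smul] at hτy
      exact hy hτy.symm
    obtain ⟨c, hc, hcne⟩ := hτR
    have hτa_mem := hRpres τ hτS a haR
    by_cases h1 : (τ : G) • a = b
    · exact h1
    exfalso
    by_cases h2 : (τ : G) • a = a
    · have hτb : (τ : G) • b = b := by rw [hb, hcomm a haR, h2]
      by_cases hca : c = a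
      · exact hcne (hca ▸ h2)
      by_cases hcb : c = b
      · exact hcne (hcb ▸ hτb)
      exact hcne (hτothers c hc hca hcb)
    · exact h2 (MulAction.injective (τ : G) (hτothers _ hτa_mem h2 h1))
  have hτb : (τ : G) • b = a := by rw [← hτa, ← mul_smul, hτ2, one_smul]
  refine ⟨d * τ, τ, ?_, hΦ _ (fun e he => by rw [mul_smul, hτE e he, hdE e he]) ?_,
    by rw [mul_smul, hτx, hdx], Or.inr hdτ, hτ2, hSz τ hτS, hτx, hτfix⟩
  · rw [mul_assoc, hSz τ hτS, ← mul_assoc, hSz d hdS, mul_assoc]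
  · intro w hw
    rw [mul_smul]
    by_cases h1 : w = a
    · rw [h1, hτa, hdb]
    by_cases h2 : w = b
    · rw [h2, hτb, ← hb]
    rw [hτothers w hw h1 h2, hothers w hw h1 h2]

/-- A `k`-transitive group (`k ≥ 4`) in which no involution fixes `k` points and only the identity
fixes more than `k` points has degree at most `k + 7`. -/
theorem card_le_of_odd_stabilizer (hk : 4 ≤ k) (hkn : k ≤ Fintype.card α) (hG : Trans G α k)
    (hP1 : ∀ g : G, k + 1 ≤ (fixSet g : Finset α).card → g = 1)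
    (hP2 : ∀ g : G, g * g = 1 → k ≤ (fixSet g : Finset α).card → g = 1) :
    Fintype.card α ≤ k + 7 := by
  classical
  haveI : Fintype G := Fintype.ofFinite G
  obtain ⟨z, hz1, hz, hf⟩ := exists_fixing_involution (α := α) (by omega : 2 ≤ k) hkn hG
  have hfk : (fixSet z : Finset α).card < k := by
    by_contra h
    exact hz1 (hP2 z hz (not_lt.1 h))
  obtain ⟨Φ, hΦ⟩ : ∃ Φ : Finset α, Φ = fixSet z := ⟨_, rfl⟩
  rw [← hΦ] at hf hfk
  obtain ⟨W, hW⟩ : ∃ W : Finset α, W = Φᶜ := ⟨_, rfl⟩
  have hWmem : ∀ w, w ∈ W ↔ z • w ≠ w := fun w => by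
    rw [hW, Finset.mem_compl, hΦ, mem_fixSet]
  have hcardW : W.card + Φ.card = Fintype.card α := by
    rw [hW, Finset.card_compl]
    have := Φ.card_le_univ
    omega
  by_contra hn
  push Not at hn
  have hm : 8 < W.card := by omega
  obtain ⟨x₀, hx₀⟩ := Finset.card_pos.1 (show 0 < W.card by omega)
  obtain ⟨X, hXdef⟩ : ∃ X : Subgroup G,
      X = Subgroup.centralizer ({z} : Set G) ⊓ fixer G Φ := ⟨_, rfl⟩
  have hX : ∀ g, g ∈ X ↔ g * z = z * g ∧ ∀ w ∈ Φ, g • w = w := fun g => by
    rw [hXdef, Subgroup.mem_inf, Subgroup.mem_centralizer_singleton_iff, mem_fixer]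
  have hzX : z ∈ X := (hX z).2 ⟨rfl, fun w hw => mem_fixSet.1 (hΦ ▸ hw)⟩
  have hzz : ∀ w : α, z • z • w = w := fun w => by rw [← mul_smul, hz, one_smul]
  have hcz : ∀ g ∈ X, ∀ w : α, g • z • w = z • g • w := fun g hg w => by
    rw [← mul_smul, ((hX g).1 hg).1, mul_smul]
  have hXW : ∀ g ∈ X, ∀ w ∈ W, g • w ∈ W := by
    intro g hg w hw
    rw [hWmem] at hw ⊢
    rw [← hcz g hg]
    exact fun h => hw (MulAction.injective g h)
  have hzW : ∀ w ∈ W, z • w ∈ W := hXW z hzX
  have hnotΦ : ∀ w ∈ W, w ∉ Φ := fun w hw h => by rw [hW, Finset.mem_compl] at hw; exact hw h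
  have hconn : ∀ y ∈ W, y ≠ x₀ → y ≠ z • x₀ →
      ∃ s τ : G, s ∈ X ∧ s • x₀ = y ∧ (s * s = 1 ∨ s * s = z) ∧ τ * τ = 1 ∧ τ * z = z * τ ∧
        τ • x₀ = x₀ ∧ ∀ w ∈ W, τ • w = w → w = x₀ ∨ w = z • x₀ := by
    intro y hy h1 h2
    obtain ⟨s, τ, hs1, hs2, hs3, hs4, hτ1, hτ2, hτ3, hτ4⟩ :=
      pair_lemma hk hG hP2 hz1 hz (hΦ ▸ hf) ((hWmem x₀).1 hx₀) ((hWmem y).1 hy) h1 h2
    exact ⟨s, τ, (hX s).2 ⟨hs1, hΦ ▸ hs2⟩, hs3, hs4, hτ1, hτ2, hτ3,
      fun w hw => hτ4 w ((hWmem w).1 hw)⟩
  obtain ⟨Xs, hXs⟩ : ∃ Xs : Finset G, ∀ g, g ∈ Xs ↔ g ∈ X :=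
    ⟨Finset.univ.filter (· ∈ X), fun g => by simp⟩
  -- the stabiliser of a point, and elements nearly fixing one
  obtain ⟨A, hA⟩ : ∃ A : α → Finset G, ∀ a g, g ∈ A a ↔ g ∈ X ∧ g • a = a :=
    ⟨fun a => Xs.filter (fun g => g • a = a), fun a g => by simp [hXs]⟩
  have hcov : ∀ y ∈ W, ∃ s ∈ X, s • x₀ = y := by
    intro y hy
    by_cases h1 : y = x₀
    · exact ⟨1, X.one_mem, by rw [h1, one_smul]⟩
    by_cases h2 : y = z • x₀
    · exact ⟨z, hzX, h2.symm⟩
    obtain ⟨s, τ, hs, hs', -⟩ := hconn y hy h1 h2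
    exact ⟨s, hs, hs'⟩
  obtain ⟨h, hh⟩ : ∃ h, h = (A x₀).card := ⟨_, rfl⟩
  have hAcard : ∀ a ∈ W, (A a).card = h := by
    intro a ha
    obtain ⟨s, hs, rfl⟩ := hcov a ha
    rw [hh]
    refine Finset.card_bij (fun g _ => s⁻¹ * g * s) ?_ ?_ ?_
    · intro g hg
      rw [hA] at hg ⊢
      exact ⟨X.mul_mem (X.mul_mem (X.inv_mem hs) hg.1) hs, by
        rw [mul_smul, mul_smul, hg.2, inv_smul_smul]⟩
    · intro g _ g' _ e
      exact mul_right_cancel (mul_left_cancel (mul_right_cancel e) |> fun e' => congrArg (· * s) e')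
    · intro g hg
      rw [hA] at hg
      refine ⟨s * g * s⁻¹, (hA _ _).2 ⟨X.mul_mem (X.mul_mem hs hg.1) (X.inv_mem hs), ?_⟩, by group⟩
      rw [mul_smul, mul_smul, inv_smul_smul, hg.2]
  have hXcard : Xs.card = W.card * h := by
    rw [Finset.card_eq_sum_card_fiberwise (f := fun g => g • x₀) (t := W)
      (fun g hg => hXW g ((hXs g).1 hg) x₀ hx₀)]
    rw [Finset.sum_congr rfl (g := fun _ => h), Finset.sum_const, smul_eq_mul]
    intro y hy
    obtain ⟨s, hs, hsy⟩ := hcov y hy
    rw [hh]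
    refine Finset.card_bij (fun g _ => s⁻¹ * g) ?_ (fun g _ g' _ e => mul_left_cancel e) ?_
    · intro g hg
      rw [Finset.mem_filter, hXs] at hg
      rw [hA]
      exact ⟨X.mul_mem (X.inv_mem hs) hg.1, by rw [mul_smul, hg.2, ← hsy, inv_smul_smul]⟩
    · intro g hg
      rw [hA] at hg
      exact ⟨s * g, Finset.mem_filter.2 ⟨(hXs _).2 (X.mul_mem hs hg.1), by rw [mul_smul, hg.2, hsy]⟩,
        by group⟩
  -- elements of `X` nearly fixing two pairs are scalars
  have htwo : ∀ g ∈ X, ∀ a ∈ W, ∀ b ∈ W, b ≠ a → b ≠ z • a → (g • a = a ∨ g • a = z • a) →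
      (g • b = b ∨ g • b = z • b) → g = 1 ∨ g = z := by
    intro g hg a ha b hb hba hbza hga hgb
    obtain ⟨g', hg'⟩ : ∃ g', (g' = g ∨ g' = z * g) ∧ g' ∈ X ∧ g' • a = a := by
      rcases hga with h1 | h1
      · exact ⟨g, Or.inl rfl, hg, h1⟩
      · exact ⟨z * g, Or.inr rfl, X.mul_mem hzX hg, by rw [mul_smul, h1, hzz]⟩
    obtain ⟨hor, hg'X, hg'a⟩ := hg'
    have hg'b : g' • b = b ∨ g' • b = z • b := by
      rcases hor with rfl | rfl
      · exact hgb
      · rcases hgb with h1 | h1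
        · right; rw [mul_smul, h1]
        · left; rw [mul_smul, h1, hzz]
    have hg'za : g' • (z • a) = z • a := by rw [hcz g' hg'X, hg'a]
    have hg'2 : g' * g' = 1 := by
      refine hP1 _ ?_
      have hb2 : g' • g' • b = b := by
        rcases hg'b with h1 | h1
        · rw [h1, h1]
        · rw [h1, hcz g' hg'X, h1, hzz]
      have hsub : Φ ∪ {a, z • a, b} ⊆ fixSet (g' * g') := by
        intro v hv
        rw [mem_fixSet, mul_smul]
        rcases Finset.mem_union.1 hv with h1 | h1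
        · rw [((hX g').1 hg'X).2 v h1, ((hX g').1 hg'X).2 v h1]
        · simp only [Finset.mem_insert, Finset.mem_singleton] at h1
          rcases h1 with rfl | rfl | rfl
          · rw [hg'a, hg'a]
          · rw [hg'za, hg'za]
          · exact hb2
      have h3 : ({a, z • a, b} : Finset α).card = 3 := by
        rw [Finset.card_insert_of_notMem, Finset.card_pair hbza.symm]
        simp [((hWmem a).1 ha).symm, hba.symm]
      have hdis : Disjoint Φ {a, z • a, b} := Finset.disjoint_left.2 fun v hv h1 => by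
        simp only [Finset.mem_insert, Finset.mem_singleton] at h1
        rcases h1 with rfl | rfl | rfl
        exacts [hnotΦ _ ha hv, hnotΦ _ (hzW a ha) hv, hnotΦ _ hb hv]
      have := Finset.card_le_card hsub
      rw [Finset.card_union_of_disjoint hdis, h3] at this
      omega
    have hg'1 : g' = 1 := by
      refine hP2 g' hg'2 ?_
      have hsub : Φ ∪ {a, z • a} ⊆ fixSet g' := by
        intro v hv
        rw [mem_fixSet]
        rcases Finset.mem_union.1 hv with h1 | h1
        · exact ((hX g').1 hg'X).2 v h1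
        · simp only [Finset.mem_insert, Finset.mem_singleton] at h1
          rcases h1 with rfl | rfl
          exacts [hg'a, hg'za]
      have hdis : Disjoint Φ {a, z • a} := Finset.disjoint_left.2 fun v hv h1 => by
        simp only [Finset.mem_insert, Finset.mem_singleton] at h1
        rcases h1 with rfl | rfl
        exacts [hnotΦ _ ha hv, hnotΦ _ (hzW a ha) hv]
      have := Finset.card_le_card hsub
      rw [Finset.card_union_of_disjoint hdis, Finset.card_pair ((hWmem a).1 ha).symm] at this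
      omega
    rcases hor with rfl | rfl
    · exact Or.inl hg'1
    · right
      rw [mul_eq_one_iff_inv_eq] at hg'1
      rw [← hg'1, inv_eq_of_mul_eq_one_left hz]
  obtain ⟨B, hB⟩ : ∃ B : Finset G, ∀ g, g ∈ B ↔
      g ∈ X ∧ g ≠ 1 ∧ g ≠ z ∧ ∃ a ∈ W, g • a = a ∨ g • a = z • a :=
    ⟨Xs.filter fun g => g ≠ 1 ∧ g ≠ z ∧ ∃ a ∈ W, g • a = a ∨ g • a = z • a, fun g => by simp [hXs]⟩
  have hBcard : B.card = W.card * (h - 1) := by
    have hsum := Finset.sum_card_bipartiteAbove_eq_sum_card_bipartiteBelow (s := W) (t := B)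
      (r := fun a g => g • a = a ∨ g • a = z • a)
    have hl : ∀ a ∈ W, (Finset.bipartiteAbove (fun a g => g • a = a ∨ g • a = z • a) B a).card
        = 2 * (h - 1) := by
      intro a ha
      have e : Finset.bipartiteAbove (fun a g => g • a = a ∨ g • a = z • a) B a =
          (A a).erase 1 ∪ ((A a).erase 1).image (fun g => z * g) := by
        ext g
        simp only [Finset.mem_bipartiteAbove, hB, Finset.mem_union, Finset.mem_erase, Finset.mem_image, hA]
        constructor
        · rintro ⟨⟨hgX, hg1, hgz, -⟩, h1 | h1⟩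
          · exact Or.inl ⟨hg1, hgX, h1⟩
          · refine Or.inr ⟨z * g, ⟨fun e => hgz ?_, X.mul_mem hzX hgX, by rw [mul_smul, h1, hzz]⟩,
              by rw [← mul_assoc, hz, one_mul]⟩
            rw [mul_eq_one_iff_inv_eq] at e
            rw [← e, inv_eq_of_mul_eq_one_left hz]
        · rintro (⟨hg1, hgX, h1⟩ | ⟨g', ⟨hg1, hgX, h1⟩, rfl⟩)
          · refine ⟨⟨hgX, hg1, fun e => (hWmem a).1 ha (e ▸ h1), a, ha, Or.inl h1⟩, Or.inl h1⟩
          · have h2 : (z * g') • a = z • a := by rw [mul_smul, h1]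
            refine ⟨⟨X.mul_mem hzX hgX, fun e => (hWmem a).1 ha ?_, fun e => hg1 ?_,
              a, ha, Or.inr h2⟩, Or.inr h2⟩
            · rw [← h2, e, one_smul]
            · exact mul_left_cancel (e.trans (mul_one z).symm)
      rw [e, Finset.card_union_of_disjoint, Finset.card_image_of_injective _ (mul_right_injective z),
        Finset.card_erase_of_mem ((hA _ _).2 ⟨X.one_mem, one_smul _ _⟩), hAcard a ha]
      · omega
      · refine Finset.disjoint_left.2 fun g hg hg' => (hWmem a).1 ha ?_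
        simp only [Finset.mem_erase, Finset.mem_image, hA] at hg hg'
        obtain ⟨g', ⟨-, -, h1⟩, rfl⟩ := hg'
        have := hg.2.2
        rwa [mul_smul, h1] at this
    have hr : ∀ g ∈ B, (Finset.bipartiteBelow (fun a g => g • a = a ∨ g • a = z • a) W g).card = 2 := by
      intro g hg
      obtain ⟨hgX, hg1, hgz, a, ha, hga⟩ := (hB g).1 hg
      have e : Finset.bipartiteBelow (fun a g => g • a = a ∨ g • a = z • a) W g = {a, z • a} := by
        ext b
        simp only [Finset.mem_bipartiteBelow, Finset.mem_insert, Finset.mem_singleton]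
        constructor
        · rintro ⟨hb, hgb⟩
          by_contra hcon
          push Not at hcon
          rcases htwo g hgX a ha b hb hcon.1 hcon.2 hga hgb with h1 | h1
          exacts [hg1 h1, hgz h1]
        · rintro (rfl | rfl)
          · exact ⟨ha, hga⟩
          · refine ⟨hzW a ha, ?_⟩
            rcases hga with h1 | h1
            · left; rw [hcz g hgX, h1]
            · right; rw [hcz g hgX, h1]
      rw [e, Finset.card_pair ((hWmem a).1 ha).symm]
    rw [Finset.sum_congr rfl hl, Finset.sum_congr rfl hr, Finset.sum_const, Finset.sum_const,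
      smul_eq_mul, smul_eq_mul] at hsum
    nlinarith
  have hh1 : 1 ≤ h := hh ▸ Finset.card_pos.2 ⟨1, (hA _ _).2 ⟨X.one_mem, one_smul _ _⟩⟩
  -- the regular set
  obtain ⟨U, hU⟩ : ∃ U : Finset G, ∀ g, g ∈ U ↔ g ∈ X ∧ (g * g = 1 ∨ g * g = z) :=
    ⟨Xs.filter fun g => g * g = 1 ∨ g * g = z, fun g => by simp [hXs]⟩
  have hUB : U ⊆ Xs \ B := by
    intro g hg
    obtain ⟨hgX, hsq⟩ := (hU g).1 hg
    refine Finset.mem_sdiff.2 ⟨(hXs g).2 hgX, fun hb => ?_⟩
    obtain ⟨-, hg1, hgz, a, ha, hga⟩ := (hB g).1 hb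
    have hane := (hWmem a).1 ha
    rcases hsq with hsq | hsq
    · obtain ⟨g', hg'X, hg'2, hg'a, hg'1⟩ :
          ∃ g', g' ∈ X ∧ g' * g' = 1 ∧ g' • a = a ∧ g' ≠ 1 := by
        rcases hga with h1 | h1
        · exact ⟨g, hgX, hsq, h1, hg1⟩
        · refine ⟨z * g, X.mul_mem hzX hgX, ?_, by rw [mul_smul, h1, hzz], fun e => hgz ?_⟩
          · rw [mul_assoc, ← mul_assoc g z g, ((hX g).1 hgX).1, mul_assoc z g g, hsq, mul_one, hz]
          · rw [mul_eq_one_iff_inv_eq] at e
            rw [← e, inv_eq_of_mul_eq_one_left hz]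
      refine hg'1 (hP2 g' hg'2 ?_)
      have hg'za : g' • (z • a) = z • a := by rw [hcz g' hg'X, hg'a]
      have hsub : Φ ∪ {a, z • a} ⊆ fixSet g' := by
        intro v hv
        rw [mem_fixSet]
        rcases Finset.mem_union.1 hv with h1 | h1
        · exact ((hX g').1 hg'X).2 v h1
        · simp only [Finset.mem_insert, Finset.mem_singleton] at h1
          rcases h1 with rfl | rfl
          exacts [hg'a, hg'za]
      have hdis : Disjoint Φ {a, z • a} := Finset.disjoint_left.2 fun v hv h1 => by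
        simp only [Finset.mem_insert, Finset.mem_singleton] at h1
        rcases h1 with rfl | rfl
        exacts [hnotΦ _ ha hv, hnotΦ _ (hzW a ha) hv]
      have := Finset.card_le_card hsub
      rw [Finset.card_union_of_disjoint hdis, Finset.card_pair hane.symm] at this
      omega
    · have h2 : g • g • a = z • a := by rw [← mul_smul, hsq]
      rcases hga with h1 | h1
      · rw [h1, h1] at h2; exact hane h2.symm
      · rw [h1, hcz g hgX, h1, hzz] at h2; exact hane h2.symm
  have hF : (Xs \ B).card = W.card := by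
    rw [Finset.card_sdiff_of_subset (fun g hg => (hXs g).2 ((hB g).1 hg).1), hXcard, hBcard]
    obtain ⟨h', rfl⟩ : ∃ h', h = h' + 1 := ⟨h - 1, by omega⟩
    rw [Nat.mul_succ, Nat.add_sub_cancel]
    omega
  have hsurj : ∀ y ∈ W, ∃ s ∈ U, s • x₀ = y := by
    intro y hy
    by_cases h1 : y = x₀
    · exact ⟨1, (hU 1).2 ⟨X.one_mem, Or.inl (one_mul _)⟩, by rw [h1, one_smul]⟩
    by_cases h2 : y = z • x₀
    · exact ⟨z, (hU z).2 ⟨hzX, Or.inl hz⟩, h2.symm⟩
    obtain ⟨s, τ, hs, hs', hs'', -⟩ := hconn y hy h1 h2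
    exact ⟨s, (hU s).2 ⟨hs, hs''⟩, hs'⟩
  have hUW : U.card = W.card := by
    refine le_antisymm (hF ▸ Finset.card_le_card hUB) ?_
    refine (Finset.card_le_card (s := W) (t := U.image (fun g => g • x₀)) ?_).trans Finset.card_image_le
    intro y hy
    obtain ⟨s, hs, rfl⟩ := hsurj y hy
    exact Finset.mem_image_of_mem _ hs
  have hUeq : U = Xs \ B := Finset.eq_of_subset_of_card_le hUB (by omega)
  have hinj₀ : Set.InjOn (fun g : G => g • x₀) (U : Set G) := by
    refine Finset.card_image_iff.1 (le_antisymm Finset.card_image_le ?_)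
    rw [hUW]
    refine Finset.card_le_card ?_
    intro y hy
    obtain ⟨s, hs, rfl⟩ := hsurj y hy
    exact Finset.mem_image_of_mem _ hs
  have hUconj : ∀ c ∈ X, ∀ g ∈ U, c⁻¹ * g * c ∈ U := by
    intro c hc g hg
    obtain ⟨hgX, hsq⟩ := (hU g).1 hg
    refine (hU _).2 ⟨X.mul_mem (X.mul_mem (X.inv_mem hc) hgX) hc, ?_⟩
    have e : c⁻¹ * g * c * (c⁻¹ * g * c) = c⁻¹ * (g * g) * c := by group
    rcases hsq with h1 | h1
    · left; rw [e, h1, mul_one, inv_mul_cancel]
    · right; rw [e, h1, mul_assoc, ← ((hX c).1 hc).1, ← mul_assoc, inv_mul_cancel, one_mul]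
  have hinj : ∀ a ∈ W, ∀ g ∈ U, ∀ g' ∈ U, g • a = g' • a → g = g' := by
    intro a ha g hg g' hg' e
    obtain ⟨c, hc, rfl⟩ := hcov a ha
    have h1 : c⁻¹ * g * c = c⁻¹ * g' * c := hinj₀ (hUconj c hc g hg) (hUconj c hc g' hg') (by
      show (c⁻¹ * g * c) • x₀ = (c⁻¹ * g' * c) • x₀
      rw [mul_smul, mul_smul, e, ← mul_smul, ← mul_smul])
    exact mul_left_cancel (mul_right_cancel h1)
  have hUz : ∀ g ∈ U, z * g ∈ U := by
    intro g hg
    obtain ⟨hgX, hsq⟩ := (hU g).1 hg
    refine (hU _).2 ⟨X.mul_mem hzX hgX, ?_⟩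
    rwa [mul_assoc, ← mul_assoc g z g, ((hX g).1 hgX).1, mul_assoc z g g, ← mul_assoc, hz, one_mul]
  have hUinv : ∀ g ∈ U, g⁻¹ ∈ U := by
    intro g hg
    obtain ⟨hgX, hsq⟩ := (hU g).1 hg
    refine (hU _).2 ⟨X.inv_mem hgX, ?_⟩
    rw [← mul_inv_rev]
    rcases hsq with h1 | h1
    · left; rw [h1, inv_one]
    · right; rw [h1, inv_eq_of_mul_eq_one_left hz]
  have hUmul : ∀ s ∈ U, ∀ t ∈ U, s * t ∈ U := by
    intro s hs t ht
    obtain ⟨hsX, hs2⟩ := (hU s).1 hs
    obtain ⟨htX, -⟩ := (hU t).1 ht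
    by_contra hst
    have hst' := hst
    rw [hUeq, Finset.mem_sdiff, hXs] at hst'
    have hb : s * t ∈ B := by
      by_contra hb
      exact hst' ⟨X.mul_mem hsX htX, hb⟩
    obtain ⟨-, hne1, hnez, a, ha, hfix⟩ := (hB _).1 hb
    rw [mul_smul] at hfix
    have hta : t • a = s⁻¹ • a ∨ t • a = (z * s⁻¹) • a := by
      rcases hfix with h1 | h1
      · left; rw [eq_inv_smul_iff, h1]
      · right
        rw [mul_smul, ← hcz _ (X.inv_mem hsX), eq_inv_smul_iff, h1]
    rcases hta with h1 | h1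
    · have := hinj a ha t ht _ (hUinv s hs) h1
      exact hne1 (by rw [this, mul_inv_cancel])
    · have := hinj a ha t ht _ (hUz _ (hUinv s hs)) h1
      exact hnez (by rw [this, ← mul_assoc, ((hX s).1 hsX).1, mul_assoc, mul_inv_cancel, mul_one])
  -- the bound
  obtain ⟨y, hy, hy1, hy2⟩ : ∃ y ∈ W, y ≠ x₀ ∧ y ≠ z • x₀ := by
    by_contra hcon
    push Not at hcon
    have h5 : W ⊆ {x₀, z • x₀} := fun w hw => by
      by_cases h1 : w = x₀
      · simp [h1]
      · simp [hcon w hw h1]
    have := (Finset.card_le_card h5).trans Finset.card_le_two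
    omega
  obtain ⟨-, τ, -, -, -, hτ2, hτz, hτx, hτfix⟩ := hconn y hy hy1 hy2
  have hτU : ∀ u ∈ U, τ * u * τ * u⁻¹ ∈ U := by
    intro u hu
    obtain ⟨huX, hsq⟩ := (hU u).1 hu
    refine hUmul _ ?_ _ (hUinv u hu)
    refine (hU _).2 ⟨(hX _).2 ⟨?_, fun w hw => ?_⟩, ?_⟩
    · rw [mul_assoc _ τ z, hτz, ← mul_assoc, mul_assoc τ u z, ((hX u).1 huX).1, ← mul_assoc τ z u,
        hτz, mul_assoc z τ u, mul_assoc z (τ * u) τ]
    · have hw' : τ • w ∈ Φ := by
        rw [hΦ, mem_fixSet] at hw ⊢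
        rw [← mul_smul, ← hτz, mul_smul, hw]
      rw [mul_smul, mul_smul, ((hX u).1 huX).2 _ hw', ← mul_smul, hτ2, one_smul]
    · have e : τ * u * τ * (τ * u * τ) = τ * (u * u) * τ := by
        rw [show τ * u * τ * (τ * u * τ) = τ * u * (τ * τ) * u * τ by group, hτ2]
        group
      rcases hsq with h1 | h1
      · left; rw [e, h1, mul_one, hτ2]
      · right; rw [e, h1, hτz, mul_assoc, hτ2, mul_one]
  have hC : ∀ w ∈ U, τ * w * τ = w → w = 1 ∨ w = z := by
    intro w hw hcomm
    have hτw : τ * w = w * τ := by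
      calc τ * w = τ * w * (τ * τ) := by rw [hτ2, mul_one]
        _ = (τ * w * τ) * τ := by group
        _ = w * τ := by rw [hcomm]
    rcases hτfix (w • x₀) (hXW w ((hU w).1 hw).1 x₀ hx₀)
        (by rw [← mul_smul, hτw, mul_smul, hτx]) with h1 | h1
    · exact Or.inl (hinj x₀ hx₀ w hw 1 ((hU 1).2 ⟨X.one_mem, Or.inl (one_mul _)⟩) (by rw [h1, one_smul]))
    · exact Or.inr (hinj x₀ hx₀ w hw z ((hU z).2 ⟨hzX, Or.inl hz⟩) h1)
  have hfib : ∀ S : Finset G, S ⊆ U → ∀ v ∈ S.image (fun u => τ * u * τ * u⁻¹),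
      (S.filter fun u => τ * u * τ * u⁻¹ = v).card ≤ 2 := by
    intro S hS v hv
    obtain ⟨u', hu', rfl⟩ := Finset.mem_image.1 hv
    refine (Finset.card_le_card (t := {u', u' * z}) ?_).trans Finset.card_le_two
    intro u hu
    rw [Finset.mem_filter] at hu
    have hw := hUmul _ (hUinv _ (hS hu')) _ (hS hu.1)
    have e : τ * (u'⁻¹ * u) * τ = u'⁻¹ * u := by
      have h1 : τ * u * τ = τ * u' * τ * (u'⁻¹ * u) := by
        rw [← mul_assoc, ← hu.2, inv_mul_cancel_right]
      calc τ * (u'⁻¹ * u) * τ = τ * u'⁻¹ * τ⁻¹ * (τ * u * τ) := by group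
        _ = τ * u'⁻¹ * τ⁻¹ * (τ * u' * τ * (u'⁻¹ * u)) := by rw [h1]
        _ = (τ * τ) * (u'⁻¹ * u) := by group
        _ = u'⁻¹ * u := by rw [hτ2, one_mul]
    rcases hC _ hw e with h1 | h1
    · simp [inv_mul_eq_one.1 h1]
    · rw [inv_mul_eq_iff_eq_mul] at h1
      simp [h1]
  obtain ⟨D, hD⟩ : ∃ D : Finset G, D = U.filter (fun u => τ * u * τ * u⁻¹ = 1 ∨ τ * u * τ * u⁻¹ = z) :=
    ⟨_, rfl⟩
  have hDU : D ⊆ U := by rw [hD]; exact Finset.filter_subset _ _
  have hDcard : D.card ≤ 4 := by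
    refine (Finset.card_le_mul_card_image (f := fun u => τ * u * τ * u⁻¹) D 2 (hfib D hDU)).trans ?_
    have hsub : D.image (fun u => τ * u * τ * u⁻¹) ⊆ {1, z} := by
      intro v hv
      obtain ⟨u, hu, rfl⟩ := Finset.mem_image.1 hv
      rw [hD, Finset.mem_filter] at hu
      simp [hu.2]
    have := (Finset.card_le_card hsub).trans Finset.card_le_two
    omega
  have himg : U.image (fun u => τ * u * τ * u⁻¹) ⊆ D := by
    intro v hv
    obtain ⟨u, hu, rfl⟩ := Finset.mem_image.1 hv
    have hvU := hτU u hu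
    rw [hD, Finset.mem_filter]
    refine ⟨hvU, ?_⟩
    have e : τ * (τ * u * τ * u⁻¹) * τ * (τ * u * τ * u⁻¹)⁻¹ =
        ((τ * u * τ * u⁻¹) * (τ * u * τ * u⁻¹))⁻¹ := by
      have hτi : τ⁻¹ = τ := inv_eq_of_mul_eq_one_left hτ2
      have h1 : τ * (τ * u * τ * u⁻¹) * τ = (τ * u * τ * u⁻¹)⁻¹ := by
        rw [show τ * (τ * u * τ * u⁻¹) * τ = (τ * τ) * (u * τ * u⁻¹ * τ) by group, hτ2, one_mul]
        simp [mul_inv_rev, hτi, mul_assoc]
      rw [h1, ← mul_inv_rev]
    rcases ((hU _).1 hvU).2 with h1 | h1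
    · left; rw [e, h1, inv_one]
    · right; rw [e, h1, inv_eq_of_mul_eq_one_left hz]
  have := (Finset.card_le_mul_card_image (f := fun u => τ * u * τ * u⁻¹) U 2 (hfib U le_rfl)).trans
    (Nat.mul_le_mul_left 2 (Finset.card_le_card himg))
  omega

end LW
end H59
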